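import Mathlib
import Cfsg.Agent.Lib.Helper25.ACStmt

/-!
# S3912 / NOEIGHTHAT (third seat, helper94)
-/

set_option autoImplicit false

universe u

namespace Cfsg.Agent.Lib.Helper94.ACNOEIGHTHAT

open Cfsg.Agent.Lib.Helper25.ACStmt

theorem main : NoEightHat.{u} := by
  intro Q _ _ huniq V hVn hV8 hnab hV4 x hx8
  obtain ⟨a, ha, b, hb, hab⟩ := hnab
  have hx8' : x ^ 8 = 1 := by
    rw [← hx8]
    exact pow_orderOf_eq_one x
  obtain ⟨i, hi⟩ : ∃ i : Q, i = x ^ 2 := ⟨_, rfl⟩
  obtain ⟨z, hz⟩ : ∃ z : Q, z = x ^ 4 := ⟨_, rfl⟩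
  have hz2 : orderOf z = 2 := by
    rw [hz, orderOf_pow' x (by norm_num : (4 : ℕ) ≠ 0), hx8]
    rfl
  have hzz : z * z = 1 := by
    rw [hz, ← pow_add]
    exact hx8'
  have hz1 : z ≠ 1 := by
    intro h
    rw [h, orderOf_one] at hz2
    omega
  have hiz : i * i = z := by
    rw [hi, hz, ← pow_add]
  have hiV : i ∈ V := hV4 i (by rw [hi, ← pow_mul]; exact hx8')
  have hno8 : ∀ v ∈ V, orderOf v ≠ 8 := by
    intro v hv h8
    have hle : Subgroup.zpowers v ≤ V := (Subgroup.zpowers_le).2 hv
    have hcard : Nat.card ↥(Subgroup.zpowers v) = 8 := by rw [Nat.card_zpowers, h8]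
    have heq : Subgroup.zpowers v = V :=
      Subgroup.eq_of_le_of_card_ge hle (by rw [hcard, hV8])
    rw [← heq] at ha hb
    obtain ⟨k, rfl⟩ := Subgroup.mem_zpowers_iff.1 ha
    obtain ⟨l, rfl⟩ := Subgroup.mem_zpowers_iff.1 hb
    exact hab ((Commute.refl v).zpow_zpow k l).eq
  have hxV : x ∉ V := fun h => hno8 x h hx8
  have hsq : ∀ v ∈ V, v * v = 1 ∨ v * v = z := by
    intro v hv
    have hd : orderOf v ∣ 8 := by
      rw [← hV8]
      exact Subgroup.orderOf_dvd_natCard V hv
    have h4 : v ^ 4 = 1 := by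
      have hd4 : orderOf v ∣ 4 := by
        obtain ⟨m, hm, hm2⟩ := (Nat.dvd_prime_pow Nat.prime_two).1 (show orderOf v ∣ 2 ^ 3 from hd)
        have hm3 : m ≠ 3 := by
          rintro rfl
          exact hno8 v hv (by rw [hm2]; norm_num)
        rw [hm2]
        exact pow_dvd_pow 2 (by omega : m ≤ 2)
      exact orderOf_dvd_iff_pow_eq_one.1 hd4
    by_cases h1 : v * v = 1
    · left
      exact h1
    · right
      have h2 : orderOf (v * v) = 2 := by
        apply orderOf_eq_prime
        · calc (v * v) ^ 2 = v ^ 4 := by rw [← pow_two v, ← pow_mul]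
            _ = 1 := h4
        · exact h1
      exact huniq _ _ h2 hz2
  have hinv : ∀ v : Q, v * v = 1 → v = 1 ∨ v = z := by
    intro v hv
    by_cases h1 : v = 1
    · left
      exact h1
    · right
      exact huniq _ _ (orderOf_eq_prime (by rw [pow_two]; exact hv) h1) hz2
  have hL : ∀ v ∈ V, v ≠ 1 → v ≠ i → v ≠ z → v ≠ i * z → (v * v = z ∧ i * v * i = v) := by
    intro v hv h1 h2 h3 h4
    have hvv : v * v = z := by
      rcases hsq v hv with h | h
      · rcases hinv v h with h' | h'
        · exact absurd h' h1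
        · exact absurd h' h3
      · exact h
    refine ⟨hvv, ?_⟩
    have hviV : v * i ∈ V := V.mul_mem hv hiV
    have h5 : (v * i) * (v * i) = z := by
      rcases hsq (v * i) hviV with h | h
      · rcases hinv (v * i) h with h' | h'
        · exfalso
          apply h4
          have e1 : v = i⁻¹ := eq_inv_of_mul_eq_one_left h'
          have hi4 : i * z * i = 1 := by
            calc i * z * i = i * (i * i) * i := by rw [hiz]
              _ = (i * i) * (i * i) := by group
              _ = 1 := by rw [hiz, hzz]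
          rw [e1]
          exact (eq_inv_of_mul_eq_one_left hi4).symm
        · exfalso
          apply h2
          rw [← hiz] at h'
          exact mul_right_cancel h'
      · exact h
    have h6 : v * (i * v * i) = v * v := by
      rw [hvv, ← h5]
      group
    exact mul_left_cancel h6
  obtain ⟨j, hjV, hj1, hj2, hj3, hj4⟩ : ∃ j ∈ V, j ≠ 1 ∧ j ≠ i ∧ j ≠ z ∧ j ≠ i * z := by
    by_contra hcon
    have hpow : ∀ v ∈ V, ∃ n : ℕ, v = x ^ n := by
      intro v hv
      by_cases h1 : v = 1
      · exact ⟨0, by rw [h1, pow_zero]⟩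
      by_cases h2 : v = i
      · exact ⟨2, by rw [h2, hi]⟩
      by_cases h3 : v = z
      · exact ⟨4, by rw [h3, hz]⟩
      by_cases h4 : v = i * z
      · exact ⟨6, by rw [h4, hi, hz, ← pow_add]⟩
      exact absurd ⟨v, hv, h1, h2, h3, h4⟩ hcon
    obtain ⟨n, rfl⟩ := hpow a ha
    obtain ⟨m, rfl⟩ := hpow b hb
    exact hab (by rw [← pow_add, ← pow_add, add_comm])
  obtain ⟨hjj, hij⟩ := hL j hjV hj1 hj2 hj3 hj4
  obtain ⟨w, hw⟩ : ∃ w : Q, w = x⁻¹ * j * x := ⟨_, rfl⟩
  have hwV : w ∈ V := by
    have h := hVn.conj_mem j hjV x⁻¹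
    rw [inv_inv] at h
    rw [hw]
    exact h
  have hjw : j = x * w * x⁻¹ := by
    rw [hw]
    group
  have hw1 : w ≠ 1 := by
    intro h
    apply hj1
    rw [hjw, h]
    group
  have hw2 : w ≠ i := by
    intro h
    apply hj2
    rw [hjw, h, hi]
    group
  have hw3 : w ≠ z := by
    intro h
    apply hj3
    rw [hjw, h, hz]
    group
  have hw4 : w ≠ i * z := by
    intro h
    apply hj4
    rw [hjw, h, hi, hz]
    group
  obtain ⟨hww, hiw⟩ := hL w hwV hw1 hw2 hw3 hw4
  have hzinv : z⁻¹ = z := inv_eq_of_mul_eq_one_left hzz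
  have hconj2 : x⁻¹ * w * x = z * j := by
    have e1 : x⁻¹ * w * x = i⁻¹ * j * i := by
      rw [hw, hi, pow_two]
      group
    have e2 : i⁻¹ * j * i = (i * i)⁻¹ * (i * j * i) := by group
    rw [e1, e2, hij, hiz, hzinv]
  have hxj2 : (x * j) * (x * j) = i * (w * j) := by
    rw [hw, hi]
    group
  have hkey : (x * j) ^ 4 = 1 := by
    have hkV : w * j ∈ V := V.mul_mem hwV hjV
    have h4 : (x * j) ^ 4 = (i * (w * j)) * (i * (w * j)) := by
      rw [← hxj2]
      simp only [pow_succ, pow_zero, one_mul, mul_assoc]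
    rw [h4]
    by_cases c1 : w * j = 1
    · exfalso
      have hwj : w = j⁻¹ := eq_inv_of_mul_eq_one_left c1
      have e0 : x⁻¹ * w * x = j := by
        calc x⁻¹ * w * x = x⁻¹ * j⁻¹ * x := by rw [hwj]
          _ = (x⁻¹ * j * x)⁻¹ := by group
          _ = w⁻¹ := by rw [← hw]
          _ = j := by rw [hwj, inv_inv]
      rw [hconj2] at e0
      exact hz1 (mul_eq_right.1 e0)
    by_cases c2 : w * j = i
    · rw [c2, hiz]
      exact hzz
    by_cases c3 : w * j = z
    · exfalso
      have hwj : w = j := by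
        rw [← hjj] at c3
        exact mul_right_cancel c3
      have e0 : x⁻¹ * w * x = w := by
        rw [hwj]
        rw [hwj] at hw
        exact hw.symm
      rw [hconj2, hwj] at e0
      exact hz1 (mul_eq_right.1 e0)
    by_cases c4 : w * j = i * z
    · rw [c4]
      have e0 : i * (i * z) = 1 := by
        rw [← mul_assoc, hiz, hzz]
      rw [e0, one_mul]
    · exfalso
      obtain ⟨hkk, hik⟩ := hL (w * j) hkV c1 c2 c3 c4
      have e1 : x⁻¹ * (w * j) * x = z * j * w := by
        have e : x⁻¹ * (w * j) * x = (x⁻¹ * w * x) * (x⁻¹ * j * x) := by group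
        rw [e, hconj2, ← hw]
      have e2 : z * j * w = w * j := by
        calc z * j * w = (w * j) * (w * j) * j * w := by rw [hkk]
          _ = w * j * w * (j * j) * w := by group
          _ = w * j * w * (w * w) * w := by rw [hjj, hww]
          _ = w * j * ((w * w) * (w * w)) := by group
          _ = w * j * (z * z) := by rw [hww]
          _ = w * j := by rw [hzz, mul_one]
      have e3 : x⁻¹ * (w * j) * x = w * j := by rw [e1, e2]
      have e4 : (w * j) * x = x * (w * j) := by
        calc (w * j) * x = x * (x⁻¹ * (w * j) * x) := by group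
          _ = x * (w * j) := by rw [e3]
      have e5 : i * (w * j) = (w * j) * i := by
        rw [hi, pow_two]
        calc x * x * (w * j) = x * (x * (w * j)) := by group
          _ = x * ((w * j) * x) := by rw [e4]
          _ = (x * (w * j)) * x := by group
          _ = ((w * j) * x) * x := by rw [e4]
          _ = (w * j) * (x * x) := by group
      have e6 : (w * j) * (i * i) = w * j := by
        calc (w * j) * (i * i) = (w * j) * i * i := by group
          _ = i * (w * j) * i := by rw [e5]
          _ = w * j := hik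
      rw [hiz] at e6
      exact hz1 (mul_eq_left.1 e6)
  have hxjV : x * j ∈ V := hV4 _ hkey
  have hxV' : x ∈ V := by
    have h := V.mul_mem hxjV (V.inv_mem hjV)
    rw [mul_inv_cancel_right] at h
    exact h
  exact hxV hxV'

end Cfsg.Agent.Lib.Helper94.ACNOEIGHTHAT
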