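import Mathlib
import Cfsg.Agent.Lib.Helper25.ACStmt

/-!
# S3912 / TYPEII (second seat, helper94)
-/

set_option autoImplicit false

universe u

namespace Cfsg.Agent.Lib.Helper94.ACTYPEII

open Cfsg.Agent.Lib.Helper25.ACStmt
open scoped Pointwise

theorem main : TypeII.{u} := by
  intro G _ _ hB X hXn hXm P₁ P₂ H₁ H₂ hP₁X hP₂X hP₁c hP₂c hH₁ hH₂ hHc hc₁ hc₂
  obtain ⟨m, hm, hXc⟩ := hXm
  classical
  have hH₁' : IsMulCommutative ↥H₁ := ⟨⟨fun a b => Subtype.ext (hH₁ a a.2 b b.2)⟩⟩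
  have hH₂' : IsMulCommutative ↥H₂ := ⟨⟨fun a b => Subtype.ext (hH₂ a a.2 b b.2)⟩⟩
  obtain ⟨g, hg⟩ := hB H₁ H₂ hH₁' hH₂' hHc
  obtain ⟨C, hC⟩ : ∃ C : Subgroup G, C = X ⊓ Subgroup.centralizer (H₂ : Set G) := ⟨_, rfl⟩
  obtain ⟨P₁', hP₁'⟩ : ∃ P₁' : Subgroup G, P₁' = P₁.map (MulAut.conj g).toMonoidHom := ⟨_, rfl⟩
  have hP₁'C : P₁' ≤ C := by
    rw [hP₁', hC]
    rintro _ ⟨y, hy, rfl⟩
    refine Subgroup.mem_inf.2 ⟨?_, Subgroup.mem_centralizer_iff.2 ?_⟩
    · have h := hXn.conj_mem y (hP₁X hy) g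
      simpa [MulAut.conj_apply] using h
    · intro h hh
      rw [hg] at hh
      obtain ⟨k, hk, rfl⟩ := hh
      have h1 := hc₁ k hk y hy
      simp only [MulEquiv.coe_toMonoidHom, MulAut.conj_apply]
      calc g * k * g⁻¹ * (g * y * g⁻¹) = g * (k * y) * g⁻¹ := by group
        _ = g * (y * k) * g⁻¹ := by rw [h1]
        _ = g * y * g⁻¹ * (g * k * g⁻¹) := by group
  have hP₂C : P₂ ≤ C := by
    rw [hC]
    intro y hy
    refine Subgroup.mem_inf.2 ⟨hP₂X hy, Subgroup.mem_centralizer_iff.2 ?_⟩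
    intro h hh
    exact hc₂ h hh y hy
  have hP₁'c : Nat.card ↥P₁' = 8 := by
    rw [hP₁', ← hP₁c]
    exact Nat.card_congr
      (Subgroup.equivMapOfInjective P₁ _ (MulEquiv.injective (MulAut.conj g))).symm.toEquiv
  have hCX : C ≤ X := by rw [hC]; exact inf_le_left
  have hCdvd : Nat.card ↥C ∣ 8 * m := by
    rw [← hXc]
    exact Subgroup.card_dvd_of_le hCX
  have h8C : 8 ∣ Nat.card ↥C := by
    rw [← hP₂c]
    exact Subgroup.card_dvd_of_le hP₂C
  have hCpos : Nat.card ↥C ≠ 0 := Nat.card_pos.ne'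
  have hfac : (Nat.card ↥C).factorization 2 = 3 := by
    have h3 : 3 ≤ (Nat.card ↥C).factorization 2 :=
      (Nat.prime_two.pow_dvd_iff_le_factorization hCpos).1 (by norm_num; exact h8C)
    have h4 : ¬ 4 ≤ (Nat.card ↥C).factorization 2 := by
      intro h
      have h16 : 2 ^ 4 ∣ Nat.card ↥C := (Nat.prime_two.pow_dvd_iff_le_factorization hCpos).2 h
      have h16' : 16 ∣ 8 * m := by
        norm_num at h16
        exact h16.trans hCdvd
      obtain ⟨k, hk⟩ := hm
      omega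
    omega
  haveI : Fact (Nat.Prime 2) := ⟨Nat.prime_two⟩
  have hs₁ : Nat.card ↥(P₁'.subgroupOf C) = 2 ^ (Nat.card ↥C).factorization 2 := by
    rw [hfac, Nat.card_congr (Subgroup.subgroupOfEquivOfLe hP₁'C).toEquiv, hP₁'c]
    norm_num
  have hs₂ : Nat.card ↥(P₂.subgroupOf C) = 2 ^ (Nat.card ↥C).factorization 2 := by
    rw [hfac, Nat.card_congr (Subgroup.subgroupOfEquivOfLe hP₂C).toEquiv, hP₂c]
    norm_num
  obtain ⟨c, hc⟩ := MulAction.exists_smul_eq ↥C (Sylow.ofCard (P₁'.subgroupOf C) hs₁)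
    (Sylow.ofCard (P₂.subgroupOf C) hs₂)
  have hc' : MulAut.conj c • (P₁'.subgroupOf C) = P₂.subgroupOf C := by
    have h := congrArg (fun S : Sylow 2 ↥C => (S : Subgroup ↥C)) hc
    simpa [Sylow.coe_subgroup_smul] using h
  have hP₂eq : ∀ x : G, x ∈ P₂ ↔ (c : G)⁻¹ * x * (c : G) ∈ P₁' := by
    intro x
    constructor
    · intro hx
      have hxC : x ∈ C := hP₂C hx
      have h1 : (⟨x, hxC⟩ : ↥C) ∈ P₂.subgroupOf C := by
        rw [Subgroup.mem_subgroupOf]
        exact hx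
      rw [← hc', Subgroup.mem_pointwise_smul_iff_inv_smul_mem, Subgroup.mem_subgroupOf] at h1
      simpa [MulAut.smul_def, MulAut.conj_inv_apply] using h1
    · intro hx
      have hxC : x ∈ C := by
        have h0 : (c : G)⁻¹ * x * c ∈ C := hP₁'C hx
        have h2 := C.mul_mem (C.mul_mem c.2 h0) (C.inv_mem c.2)
        have h3 : (c : G) * ((c : G)⁻¹ * x * c) * (c : G)⁻¹ = x := by group
        rw [h3] at h2
        exact h2
      have h1 : (⟨x, hxC⟩ : ↥C) ∈ MulAut.conj c • (P₁'.subgroupOf C) := by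
        rw [Subgroup.mem_pointwise_smul_iff_inv_smul_mem, Subgroup.mem_subgroupOf]
        simpa [MulAut.smul_def, MulAut.conj_inv_apply] using hx
      rw [hc', Subgroup.mem_subgroupOf] at h1
      exact h1
  have hcH : ∀ h ∈ H₂, (c : G) * h = h * (c : G) := by
    intro h hh
    have hcC : (c : G) ∈ X ⊓ Subgroup.centralizer (H₂ : Set G) := by
      rw [← hC]
      exact c.2
    exact ((Subgroup.mem_centralizer_iff.1 (Subgroup.mem_inf.1 hcC).2) h hh).symm
  refine ⟨(c : G) * g, ?_⟩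
  apply le_antisymm
  · rw [sup_le_iff]
    constructor
    · intro x hx
      have h1 := (hP₂eq x).1 hx
      rw [hP₁'] at h1
      obtain ⟨y, hy, hyx⟩ := h1
      refine ⟨y, Subgroup.mem_sup_left hy, ?_⟩
      simp only [MulEquiv.coe_toMonoidHom, MulAut.conj_apply] at hyx ⊢
      calc (c : G) * g * y * ((c : G) * g)⁻¹ = c * (g * y * g⁻¹) * (c : G)⁻¹ := by group
        _ = c * ((c : G)⁻¹ * x * c) * (c : G)⁻¹ := by rw [hyx]
        _ = x := by group
    · intro x hx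
      have hx' := hx
      rw [hg] at hx'
      obtain ⟨k, hk, hkx⟩ := hx'
      refine ⟨k, Subgroup.mem_sup_right hk, ?_⟩
      simp only [MulEquiv.coe_toMonoidHom, MulAut.conj_apply] at hkx ⊢
      calc (c : G) * g * k * ((c : G) * g)⁻¹ = c * (g * k * g⁻¹) * (c : G)⁻¹ := by group
        _ = c * x * (c : G)⁻¹ := by rw [hkx]
        _ = x := by rw [hcH x hx]; group
  · rw [Subgroup.map_sup, sup_le_iff]
    constructor
    · rintro _ ⟨y, hy, rfl⟩
      apply Subgroup.mem_sup_left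
      rw [hP₂eq]
      have h1 : (c : G)⁻¹ * ((MulAut.conj ((c : G) * g)).toMonoidHom y) * c =
          (MulAut.conj g).toMonoidHom y := by
        simp only [MulEquiv.coe_toMonoidHom, MulAut.conj_apply]
        group
      rw [h1, hP₁']
      exact Subgroup.mem_map_of_mem _ hy
    · rintro _ ⟨k, hk, rfl⟩
      apply Subgroup.mem_sup_right
      have hk2 : (MulAut.conj g).toMonoidHom k ∈ H₂ := by
        rw [hg]
        exact Subgroup.mem_map_of_mem _ hk
      have h1 : (MulAut.conj ((c : G) * g)).toMonoidHom k = (MulAut.conj g).toMonoidHom k := by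
        simp only [MulEquiv.coe_toMonoidHom, MulAut.conj_apply] at hk2 ⊢
        calc (c : G) * g * k * ((c : G) * g)⁻¹ = c * (g * k * g⁻¹) * (c : G)⁻¹ := by group
          _ = g * k * g⁻¹ * c * (c : G)⁻¹ := by rw [hcH _ hk2]
          _ = g * k * g⁻¹ := by group
      rw [h1]
      exact hk2

end Cfsg.Agent.Lib.Helper94.ACTYPEII
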