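import Mathlib
import Cfsg.Agent.Lib.Helper64.C2MStmt
import Cfsg.Agent.Lib.Helper44.NegPairs

/-!
# S5990C / SINGPAIRM (helper64's sub-call), third seat (helper94)

A nonzero nondegenerate plus-type subspace of the minus form contains a hyperbolic pair.
-/

set_option autoImplicit false

universe u

namespace Cfsg.Agent.Lib.Helper94.C2MSINGPAIRM

open QuadraticMap Module
open Cfsg.Agent.Lib.Helper44.NegPairs (minusQ)

theorem main : Cfsg.Agent.Lib.Helper64.C2MStmt.SingPairM.{u} := by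
  intro F _ _ a₀ b₀ d A hND hPlus hA
  obtain ⟨U, hUA, hTS, hfr⟩ := hPlus
  have hU : U ≠ ⊥ := by
    rintro rfl
    rw [finrank_bot, mul_zero] at hfr
    exact hA (Submodule.finrank_eq_zero.mp hfr.symm)
  obtain ⟨e, heU, he0⟩ := Submodule.exists_mem_ne_zero_of_ne_bot hU
  have heA : e ∈ A := hUA heU
  have hQe : minusQ (d - 1) F a₀ b₀ e = 0 := hTS e heU
  obtain ⟨f₀, hf₀A, hne⟩ := (hND e heA he0).2
  have hne' : polar (minusQ (d - 1) F a₀ b₀) e f₀ ≠ 0 := hne
  obtain ⟨c, hc⟩ : ∃ c : F, c = -(minusQ (d - 1) F a₀ b₀ f₀ /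
      polar (minusQ (d - 1) F a₀ b₀) e f₀) := ⟨_, rfl⟩
  have hQf : minusQ (d - 1) F a₀ b₀ (f₀ + c • e) = 0 := by
    rw [QuadraticMap.map_add (minusQ (d - 1) F a₀ b₀) f₀ (c • e), QuadraticMap.map_smul, hQe,
      polar_smul_right, polar_comm, smul_zero, add_zero, smul_eq_mul, hc, neg_mul,
      div_mul_cancel₀ _ hne', add_neg_cancel]
  have hpol : polar (minusQ (d - 1) F a₀ b₀) e (f₀ + c • e) ≠ 0 := by
    rw [polar_add_right, polar_smul_right, QuadraticMap.polar_self, hQe]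
    simpa using hne'
  exact ⟨e, heA, f₀ + c • e, A.add_mem hf₀A (A.smul_mem _ heA), hQe, hQf, hpol⟩

end Cfsg.Agent.Lib.Helper94.C2MSINGPAIRM
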