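import Mathlib
import Cfsg.Agent.Lib.Helper74.DixStmt
import Cfsg.Agent.Lib.CT.Ops

/-!
# S4472 / STAB (second seat, helper94)
-/

set_option autoImplicit false

universe u

namespace Cfsg.Agent.Lib.Helper94.DixSTAB

open Cfsg Cfsg.Agent.Lib.Helper74.DixStmt

theorem main (hO : OrbProp.{u}) : StabProp.{u} := by
  intro L _ _ p _ K hK hcop hidx
  classical
  suffices H : ∀ n : ℕ, ∀ C : Finset (K → ℂ), C.card = n → (∀ φ ∈ C, IsIrrCharacter K φ) →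
      (∀ φ ∈ C, ∀ g : L, (fun k : K => φ ⟨g * k * g⁻¹, hK.conj_mem k k.2 g⟩) ∈ C) →
      ∃ Ψ : L → ℂ, IsCharacter L Ψ ∧ (∀ g, Ψ g ∈ Cyc (Nat.card K)) ∧
        ∀ k : K, Ψ k = ∑ φ ∈ C, φ k from
    fun C hirr hstab => H C.card C rfl hirr hstab
  intro n
  induction n using Nat.strong_induction_on with
  | _ n ih =>
    intro C hn hirr hstab
    by_cases hC : C = ∅
    · subst hC
      refine ⟨0, Cfsg.Agent.Lib.CT.Ops.isCharacter_zero, fun g => ?_, fun k => ?_⟩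
      · exact (Cyc (Nat.card K)).zero_mem
      · simp
    · obtain ⟨φ, hφ⟩ := Finset.nonempty_iff_ne_empty.2 hC
      obtain ⟨Ψ₁, hΨ₁, hΨ₁c, s, hs, hΨ₁s⟩ := hO p K hcop hidx φ (hirr φ hφ)
      have hsC : s ⊆ C := by
        intro φ' hφ'
        obtain ⟨g, rfl⟩ := (hs φ').1 hφ'
        exact hstab φ hφ g
      have hφs : φ ∈ s := by
        refine (hs φ).2 ⟨1, ?_⟩
        funext k
        congr 1
        exact Subtype.ext (by simp)
      have hcard : (C \ s).card < C.card :=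
        Finset.card_lt_card (Finset.sdiff_ssubset hsC ⟨φ, hφs⟩)
      have hstab' : ∀ φ' ∈ C \ s, ∀ g : L,
          (fun k : K => φ' ⟨g * k * g⁻¹, hK.conj_mem k k.2 g⟩) ∈ C \ s := by
        intro φ' hφ' g
        rw [Finset.mem_sdiff] at hφ' ⊢
        refine ⟨hstab φ' hφ'.1 g, fun hin => hφ'.2 ?_⟩
        obtain ⟨h, hh⟩ := (hs _).1 hin
        refine (hs φ').2 ⟨h * g⁻¹, ?_⟩
        funext k
        have h1 := congrFun hh ⟨g⁻¹ * k * g⁻¹⁻¹, hK.conj_mem k k.2 g⁻¹⟩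
        simp only at h1
        convert h1 using 2 <;> exact Subtype.ext (by simp [mul_assoc])
      obtain ⟨Ψ₂, hΨ₂, hΨ₂c, hΨ₂s⟩ := ih (C \ s).card (hn ▸ hcard) (C \ s) rfl
        (fun φ' h => hirr φ' (Finset.mem_sdiff.1 h).1) hstab'
      refine ⟨Ψ₂ + Ψ₁, Cfsg.Agent.Lib.CT.Ops.isCharacter_add hΨ₂ hΨ₁,
        fun g => add_mem (hΨ₂c g) (hΨ₁c g), fun k => ?_⟩
      rw [Pi.add_apply, hΨ₂s, hΨ₁s, Finset.sum_sdiff hsC]

end Cfsg.Agent.Lib.Helper94.DixSTAB
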