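import Mathlib
import Cfsg.Agent.Lib.Helper40.HPStmt
import Cfsg.Agent.Lib.Helper47.TPTOP
import Cfsg.Agent.Lib.Helper21.TPSUBPERP
import Cfsg.Agent.Lib.Helper48.TPORTHSUM
import Cfsg.Agent.Lib.Helper11.TPCANCEL
import Cfsg.Agent.Lib.Helper73.HPINVOLH

/-!
# S5974 / C2FIX (helper40's call), second seat (helper94)

Char 2: an isometry `x` of the plus form with `x * x = 1` fixes a hyperbolic `m`-space
(`m` even, `2 ≤ m < d`) if `d` is odd or `4 ∣ m`.  Induction on invariant nondegenerate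
plus-type subspaces `Z`, peeling off invariant hyperbolic planes / 4-spaces.
-/

set_option autoImplicit false

universe u

open scoped Matrix

namespace Cfsg.Agent.Lib.Helper94.HPC2FIX

open Module QuadraticMap
open Cfsg.Agent.Lib.Helper44.NegPairs (plusQ)
open Cfsg.Agent.Lib.Helper94.OPStmt (P NDegP StabP)
open Cfsg.Agent.Lib.Helper40.HPStmt (HypJ hypJ_iff)

variable {F : Type u} [Field F] [Fintype F] {d : ℕ}

/-- the linear map of `x` -/
def Xl (x : Matrix.GeneralLinearGroup (P d) F) : (P d → F) →ₗ[F] (P d → F) :=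
  Matrix.toLin' (x : Matrix (P d) (P d) F)

/-- nondegenerate -/
def ND (d : ℕ) (F : Type u) [Field F] (Z : Submodule F (P d → F)) : Prop :=
  ∀ w ∈ Z, w ≠ 0 → ∃ y ∈ Z, polar (plusQ d F) w y ≠ 0

/-- plus type -/
def PL (d : ℕ) (F : Type u) [Field F] (Z : Submodule F (P d → F)) : Prop :=
  ∃ U : Submodule F (P d → F), U ≤ Z ∧ (∀ u ∈ U, plusQ d F u = 0) ∧
    2 * finrank F ↥U = finrank F ↥Z

theorem nd_iff (Z : Submodule F (P d → F)) : NDegP d F Z ↔ ND d F Z := by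
  constructor
  · intro h w hw hw0
    exact (h w hw hw0).2
  · intro h w hw hw0
    obtain ⟨y, hy, hne⟩ := h w hw hw0
    exact ⟨⟨y, hy, by rw [polar_comm]; exact hne⟩, ⟨y, hy, hne⟩⟩

theorem stab_iff (x : Matrix.GeneralLinearGroup (P d) F) (Z : Submodule F (P d → F)) :
    StabP (x : Matrix (P d) (P d) F) Z ↔ ∀ v ∈ Z, Xl x v ∈ Z := by
  constructor
  · intro h v hv
    exact h ⟨v, hv, rfl⟩
  · intro h
    rintro _ ⟨v, hv, rfl⟩
    exact h v hv

/-- invariant, nondegenerate, plus type -/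
def Good (x : Matrix.GeneralLinearGroup (P d) F) (Z : Submodule F (P d → F)) : Prop :=
  (∀ v ∈ Z, Xl x v ∈ Z) ∧ ND d F Z ∧ PL d F Z

theorem good_bot (x : Matrix.GeneralLinearGroup (P d) F) : Good x ⊥ := by
  refine ⟨?_, ?_, ⊥, le_refl _, ?_, ?_⟩
  · intro v hv
    rw [Submodule.mem_bot] at hv
    rw [hv, map_zero]
    exact Submodule.zero_mem _
  · intro w hw hw0
    rw [Submodule.mem_bot] at hw
    exact absurd hw hw0
  · intro u hu
    rw [Submodule.mem_bot] at hu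
    rw [hu, map_zero]
  · rw [finrank_bot]

theorem stab_sup (x : Matrix.GeneralLinearGroup (P d) F) (A B : Submodule F (P d → F))
    (hA : ∀ v ∈ A, Xl x v ∈ A) (hB : ∀ v ∈ B, Xl x v ∈ B) : ∀ v ∈ A ⊔ B, Xl x v ∈ A ⊔ B := by
  intro v hv
  obtain ⟨a, ha, b, hb, rfl⟩ := Submodule.mem_sup.mp hv
  rw [map_add]
  exact Submodule.add_mem _ (Submodule.mem_sup_left (hA a ha)) (Submodule.mem_sup_right (hB b hb))

theorem add_self_V [CharP F 2] (v : P d → F) : v + v = 0 := by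
  rw [← two_smul F v, CharTwo.two_eq_zero, zero_smul]

theorem pol_self [CharP F 2] (v : P d → F) : polar (plusQ d F) v v = 0 := by
  have h := QuadraticMap.polar_self (plusQ d F) v
  rw [h, two_nsmul, CharTwo.add_self_eq_zero]

theorem pol_X (x : Matrix.GeneralLinearGroup (P d) F)
    (hQ : ∀ v, plusQ d F (Xl x v) = plusQ d F v) (u v : P d → F) :
    polar (plusQ d F) (Xl x u) (Xl x v) = polar (plusQ d F) u v := by
  unfold polar
  rw [← map_add, hQ, hQ, hQ]

theorem orth_sum (A B : Submodule F (P d → F)) (hA : ND d F A) (hB : ND d F B)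
    (hAB : ∀ u ∈ A, ∀ v ∈ B, polar (plusQ d F) u v = 0) :
    ND d F (A ⊔ B) ∧ A ⊓ B = ⊥ ∧ finrank F ↥(A ⊔ B) = finrank F ↥A + finrank F ↥B := by
  have h := Cfsg.Agent.Lib.Helper48.TPORTHSUM.main F d A B ((nd_iff A).mpr hA) ((nd_iff B).mpr hB)
    hAB
  exact ⟨(nd_iff _).mp h.1, h.2.1, h.2.2⟩

theorem glue (A B : Submodule F (P d → F)) (hA : ND d F A) (hB : ND d F B)
    (hAB : ∀ u ∈ A, ∀ v ∈ B, polar (plusQ d F) u v = 0) (pA : PL d F A) (pB : PL d F B) :
    ND d F (A ⊔ B) ∧ PL d F (A ⊔ B) ∧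
      finrank F ↥(A ⊔ B) = finrank F ↥A + finrank F ↥B := by
  obtain ⟨h1, h2, h3⟩ := orth_sum A B hA hB hAB
  obtain ⟨UA, hUA, tA, fA⟩ := pA
  obtain ⟨UB, hUB, tB, fB⟩ := pB
  refine ⟨h1, ⟨UA ⊔ UB, sup_le_sup hUA hUB, ?_, ?_⟩, h3⟩
  · intro w hw
    obtain ⟨a, ha, b, hb, rfl⟩ := Submodule.mem_sup.mp hw
    rw [QuadraticMap.map_add (plusQ d F) a b, tA a ha, tB b hb, hAB a (hUA ha) b (hUB hb)]
    simp
  · have hinf : UA ⊓ UB = ⊥ := by
      rw [eq_bot_iff, ← h2]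
      exact inf_le_inf hUA hUB
    have h := Submodule.finrank_sup_add_finrank_inf_eq UA UB
    rw [hinf, finrank_bot] at h
    omega

theorem perp_in (x : Matrix.GeneralLinearGroup (P d) F)
    (hx : x ∈ Cfsg.isometryGroup F (Cfsg.quadFormPlus d F))
    (Z B : Submodule F (P d → F)) (hZ : Good x Z) (hB : Good x B) (hBZ : B ≤ Z) :
    ∃ Z₁ : Submodule F (P d → F), Z₁ ≤ Z ∧ Good x Z₁ ∧
      (∀ b ∈ B, ∀ y ∈ Z₁, polar (plusQ d F) b y = 0) ∧
      finrank F ↥B + finrank F ↥Z₁ = finrank F ↥Z := by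
  obtain ⟨Z₁, h1, h2, h3, h4, h5, h6⟩ : ∃ Z₁ : Submodule F (P d → F), Z₁ ≤ Z ∧ NDegP d F Z₁ ∧
      B ⊓ Z₁ = ⊥ ∧ (∀ b ∈ B, ∀ y ∈ Z₁, polar (plusQ d F) b y = 0) ∧
      finrank F ↥B + finrank F ↥Z₁ = finrank F ↥Z ∧
      ∀ x : Matrix.GeneralLinearGroup (P d) F,
        x ∈ Cfsg.isometryGroup F (Cfsg.quadFormPlus d F) →
        StabP (x : Matrix (P d) (P d) F) Z → StabP (x : Matrix (P d) (P d) F) B →
        StabP (x : Matrix (P d) (P d) F) Z₁ :=
    Cfsg.Agent.Lib.Helper21.TPSUBPERP.main F d Z B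
      ((nd_iff Z).mpr hZ.2.1) ((nd_iff B).mpr hB.2.1) hBZ
  have hst : ∀ v ∈ Z₁, Xl x v ∈ Z₁ :=
    (stab_iff x Z₁).mp (h6 x hx ((stab_iff x Z).mpr hZ.1) ((stab_iff x B).mpr hB.1))
  have hsup : B ⊔ Z₁ = Z := by
    apply Submodule.eq_of_le_of_finrank_eq (sup_le hBZ h1)
    have h := Submodule.finrank_sup_add_finrank_inf_eq B Z₁
    rw [h3, finrank_bot] at h
    omega
  have hpl : PL d F Z₁ :=
    Cfsg.Agent.Lib.Helper11.TPCANCEL.main F d B Z₁ ((nd_iff B).mpr hB.2.1) h2 h4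
      (by rw [hsup]; exact hZ.2.2) hB.2.2
  exact ⟨Z₁, h1, ⟨hst, (nd_iff Z₁).mp h2, hpl⟩, h4, h5⟩

theorem plane [CharP F 2] (a b : P d → F) (hab : polar (plusQ d F) a b ≠ 0)
    (hb : plusQ d F b = 0) :
    ND d F (Submodule.span F {a} ⊔ Submodule.span F {b}) ∧
    PL d F (Submodule.span F {a} ⊔ Submodule.span F {b}) ∧
    finrank F ↥(Submodule.span F {a} ⊔ Submodule.span F {b}) = 2 := by
  have ha0 : a ≠ 0 := by
    rintro rfl
    exact hab (by simp)
  have hb0 : b ≠ 0 := by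
    rintro rfl
    exact hab (by simp)
  have hba : polar (plusQ d F) b a ≠ 0 := by rwa [polar_comm]
  have hinf : Submodule.span F {a} ⊓ Submodule.span F {b} = ⊥ := by
    rw [eq_bot_iff]
    rintro w ⟨hwa, hwb⟩
    obtain ⟨s, rfl⟩ := Submodule.mem_span_singleton.mp hwa
    obtain ⟨t, ht⟩ := Submodule.mem_span_singleton.mp hwb
    have h1 : polar (plusQ d F) (t • b) a = 0 := by
      rw [ht, polar_smul_left, pol_self, smul_zero]
    rw [polar_smul_left, smul_eq_mul] at h1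
    have ht0 : t = 0 := by
      rcases mul_eq_zero.mp h1 with h | h
      · exact h
      · exact absurd h hba
    rw [Submodule.mem_bot, ← ht, ht0, zero_smul]
  have hfin : finrank F ↥(Submodule.span F {a} ⊔ Submodule.span F {b}) = 2 := by
    have h := Submodule.finrank_sup_add_finrank_inf_eq (Submodule.span F {a})
      (Submodule.span F {b})
    rw [hinf, finrank_bot, finrank_span_singleton ha0, finrank_span_singleton hb0] at h
    omega
  refine ⟨?_, ⟨Submodule.span F {b}, le_sup_right, ?_, ?_⟩, hfin⟩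
  · intro w hw hw0
    obtain ⟨w1, hw1, w2, hw2, rfl⟩ := Submodule.mem_sup.mp hw
    obtain ⟨s, rfl⟩ := Submodule.mem_span_singleton.mp hw1
    obtain ⟨t, rfl⟩ := Submodule.mem_span_singleton.mp hw2
    have hA : a ∈ Submodule.span F {a} ⊔ Submodule.span F {b} :=
      Submodule.mem_sup_left (Submodule.mem_span_singleton_self a)
    have hB : b ∈ Submodule.span F {a} ⊔ Submodule.span F {b} :=
      Submodule.mem_sup_right (Submodule.mem_span_singleton_self b)
    have e1 : polar (plusQ d F) (s • a + t • b) a = t * polar (plusQ d F) b a := by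
      rw [polar_add_left, polar_smul_left, polar_smul_left, pol_self, smul_zero, zero_add,
        smul_eq_mul]
    have e2 : polar (plusQ d F) (s • a + t • b) b = s * polar (plusQ d F) a b := by
      rw [polar_add_left, polar_smul_left, polar_smul_left, pol_self, smul_zero, add_zero,
        smul_eq_mul]
    by_cases hs : s = 0
    · have ht : t ≠ 0 := by
        rintro rfl
        apply hw0
        rw [hs, zero_smul, zero_smul, add_zero]
      exact ⟨a, hA, by rw [e1]; exact mul_ne_zero ht hba⟩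
    · exact ⟨b, hB, by rw [e2]; exact mul_ne_zero hs hab⟩
  · intro w hw
    obtain ⟨t, rfl⟩ := Submodule.mem_span_singleton.mp hw
    rw [QuadraticMap.map_smul, hb, smul_zero]
  · rw [hfin, finrank_span_singleton hb0]

theorem sing [CharP F 2] (x : Matrix.GeneralLinearGroup (P d) F)
    (hQ : ∀ v, plusQ d F (Xl x v) = plusQ d F v) (hXX : ∀ v, Xl x (Xl x v) = v)
    (Z : Submodule F (P d → F)) (hZ : Good x Z) (v : P d → F) (hv : v ∈ Z)
    (hne : polar (plusQ d F) v (Xl x v) ≠ 0) :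
    ∃ u ∈ Z, plusQ d F u = 0 ∧ polar (plusQ d F) u (Xl x u) ≠ 0 := by
  obtain ⟨hst, hnd, T, hTZ, hTs, hTf⟩ := hZ
  by_cases h1 : ∃ t ∈ T, polar (plusQ d F) t (Xl x t) ≠ 0
  · obtain ⟨t, ht, hne'⟩ := h1
    exact ⟨t, hTZ ht, hTs t ht, hne'⟩
  push_neg at h1
  by_cases h2 : plusQ d F v = 0
  · exact ⟨v, hv, h2, hne⟩
  have h3 : ∃ t ∈ T, polar (plusQ d F) v t ≠ 0 := by
    by_contra hcon
    push_neg at hcon
    have hpair : finrank F ↥T + finrank F ↥(T ⊔ Submodule.span F {v}) ≤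
        finrank F ↥Z + finrank F ↥(⊥ : Submodule F (P d → F)) :=
      Cfsg.Agent.Lib.Helper11.TPCANCEL.pairing (plusQ d F) T Z ⊥
      (T ⊔ Submodule.span F {v})
      (fun t ht h => by
        rw [Submodule.mem_bot]
        by_contra ht0
        obtain ⟨y, hy, hyne⟩ := hnd t (hTZ ht) ht0
        exact hyne (h y hy))
      (sup_le hTZ (by rw [Submodule.span_singleton_le_iff_mem]; exact hv))
      (fun w hw t ht => by
        obtain ⟨t', ht', s, hs, rfl⟩ := Submodule.mem_sup.mp hw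
        obtain ⟨c, rfl⟩ := Submodule.mem_span_singleton.mp hs
        rw [polar_add_right, polar_smul_right,
          Cfsg.Agent.Lib.Helper11.TPCANCEL.polar_ts (plusQ d F) T hTs t t' ht ht',
          polar_comm, hcon t ht]
        simp)
    rw [finrank_bot] at hpair
    have heq : T = T ⊔ Submodule.span F {v} :=
      Submodule.eq_of_le_of_finrank_le le_sup_left (by omega)
    have hvT : v ∈ T := by
      rw [heq]
      exact Submodule.mem_sup_right (Submodule.mem_span_singleton_self v)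
    exact h2 (hTs v hvT)
  obtain ⟨t, ht, hvt⟩ := h3
  obtain ⟨c, hc⟩ : ∃ c : F, c = plusQ d F v / polar (plusQ d F) v t := ⟨_, rfl⟩
  have hcm : c * polar (plusQ d F) v t = plusQ d F v := by
    rw [hc, div_mul_cancel₀ _ hvt]
  refine ⟨v + c • t, Z.add_mem hv (Z.smul_mem c (hTZ ht)), ?_, ?_⟩
  · rw [QuadraticMap.map_add (plusQ d F) v (c • t), QuadraticMap.map_smul, hTs t ht,
      polar_smul_right, smul_zero, add_zero, smul_eq_mul, hcm]
    exact CharTwo.add_self_eq_zero _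
  · have hsw : polar (plusQ d F) t (Xl x v) = polar (plusQ d F) v (Xl x t) := by
      rw [← pol_X x hQ t (Xl x v), hXX, polar_comm]
    have key : polar (plusQ d F) (v + c • t) (Xl x (v + c • t)) =
        polar (plusQ d F) v (Xl x v) := by
      simp only [map_add, map_smul, polar_add_left, polar_add_right, polar_smul_left,
        polar_smul_right, smul_eq_mul]
      rw [h1 t ht, hsw]
      have h := CharTwo.add_self_eq_zero (c * polar (plusQ d F) v (Xl x t))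
      linear_combination h
    rw [key]
    exact hne

theorem planeB [CharP F 2] (x : Matrix.GeneralLinearGroup (P d) F)
    (hQ : ∀ v, plusQ d F (Xl x v) = plusQ d F v) (hXX : ∀ v, Xl x (Xl x v) = v)
    (Z : Submodule F (P d → F)) (hZ : Good x Z) (v : P d → F) (hv : v ∈ Z)
    (hne : polar (plusQ d F) v (Xl x v) ≠ 0) :
    ∃ Pl : Submodule F (P d → F), Pl ≤ Z ∧ Good x Pl ∧ finrank F ↥Pl = 2 := by
  obtain ⟨u, hu, hu0, hune⟩ := sing x hQ hXX Z hZ v hv hne
  have hne' : polar (plusQ d F) (Xl x u) u ≠ 0 := by rwa [polar_comm]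
  obtain ⟨h1, h2, h3⟩ := plane (Xl x u) u hne' hu0
  refine ⟨_, sup_le ?_ ?_, ⟨?_, h1, h2⟩, h3⟩
  · rw [Submodule.span_singleton_le_iff_mem]
    exact hZ.1 u hu
  · rw [Submodule.span_singleton_le_iff_mem]
    exact hu
  · intro w hw
    obtain ⟨w1, hw1, w2, hw2, rfl⟩ := Submodule.mem_sup.mp hw
    obtain ⟨s, rfl⟩ := Submodule.mem_span_singleton.mp hw1
    obtain ⟨t, rfl⟩ := Submodule.mem_span_singleton.mp hw2
    rw [map_add, map_smul, map_smul, hXX]
    exact Submodule.add_mem _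
      (Submodule.smul_mem _ _ (Submodule.mem_sup_right (Submodule.mem_span_singleton_self u)))
      (Submodule.smul_mem _ _ (Submodule.mem_sup_left (Submodule.mem_span_singleton_self _)))

theorem sub_fix (x : Matrix.GeneralLinearGroup (P d) F) (Z : Submodule F (P d → F))
    (hnd : ND d F Z) (hfix : ∀ u ∈ Z, Xl x u = u) (m : ℕ) (hm : Even m) (hm2 : 2 ≤ m)
    (hlt : m < finrank F ↥Z) :
    ∃ W : Submodule F (P d → F), W ≤ Z ∧ Good x W ∧ finrank F ↥W = m := by
  obtain ⟨h, rfl⟩ : ∃ h, m = 2 * h := by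
    obtain ⟨k, hk⟩ := hm
    exact ⟨k, by omega⟩
  obtain ⟨W, hWZ, hW⟩ := Cfsg.Agent.Lib.Helper73.HPINVOLH.hyp_in d h (by omega) Z
    ((nd_iff Z).mpr hnd) hlt
  obtain ⟨h1, h2, h3⟩ := (hypJ_iff d (2 * h) W).mp hW
  exact ⟨W, hWZ, ⟨fun w hw => by rw [hfix w (hWZ hw)]; exact hw, (nd_iff W).mp h2, h3⟩, h1⟩

theorem fourC [CharP F 2] (x : Matrix.GeneralLinearGroup (P d) F)
    (hQ : ∀ v, plusQ d F (Xl x v) = plusQ d F v) (hXX : ∀ v, Xl x (Xl x v) = v)
    (Z : Submodule F (P d → F)) (hZ : Good x Z)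
    (h0 : ∀ u ∈ Z, polar (plusQ d F) u (Xl x u) = 0) (u : P d → F) (hu : u ∈ Z)
    (hun : Xl x u ≠ u) :
    ∃ X4 : Submodule F (P d → F), X4 ≤ Z ∧ Good x X4 ∧ finrank F ↥X4 = 4 := by
  have F1 : ∀ a b : P d → F,
      polar (plusQ d F) (Xl x a + a) b = polar (plusQ d F) a (Xl x b + b) := by
    intro a b
    rw [polar_add_left, polar_add_right]
    congr 1
    rw [← pol_X x hQ a (Xl x b), hXX]
  have F2 : ∀ a : P d → F, Xl x (Xl x a + a) + (Xl x a + a) = 0 := by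
    intro a
    rw [map_add, hXX, add_comm a (Xl x a)]
    exact add_self_V _
  have F2' : ∀ a : P d → F, Xl x (Xl x a + a) = Xl x a + a := by
    intro a
    rw [map_add, hXX, add_comm]
  have F3 : ∀ a ∈ Z, plusQ d F (Xl x a + a) = 0 := by
    intro a ha
    rw [QuadraticMap.map_add (plusQ d F) (Xl x a) a, hQ, polar_comm, h0 a ha, add_zero]
    exact CharTwo.add_self_eq_zero _
  have F4 : ∀ a ∈ Z, polar (plusQ d F) a (Xl x a + a) = 0 := by
    intro a ha
    rw [polar_add_right, h0 a ha, pol_self, add_zero]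
  obtain ⟨n, hn⟩ : ∃ n, n = Xl x u + u := ⟨_, rfl⟩
  have hnZ : n ∈ Z := by
    rw [hn]
    exact Z.add_mem (hZ.1 u hu) hu
  have hn0 : n ≠ 0 := by
    intro h
    apply hun
    rw [hn] at h
    exact add_right_cancel (h.trans (add_self_V u).symm)
  obtain ⟨v0, hv0, hβ⟩ := hZ.2.1 n hnZ hn0
  obtain ⟨c, hc⟩ : ∃ c : F, c = polar (plusQ d F) u v0 / polar (plusQ d F) n v0 := ⟨_, rfl⟩
  have hcm : c * polar (plusQ d F) n v0 = polar (plusQ d F) u v0 := by
    rw [hc, div_mul_cancel₀ _ hβ]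
  obtain ⟨v, hvd⟩ : ∃ v, v = v0 + c • (Xl x v0 + v0) := ⟨_, rfl⟩
  have hvZ : v ∈ Z := by
    rw [hvd]
    exact Z.add_mem hv0 (Z.smul_mem c (Z.add_mem (hZ.1 v0 hv0) hv0))
  obtain ⟨nv, hnv⟩ : ∃ nv, nv = Xl x v + v := ⟨_, rfl⟩
  have hnvZ : nv ∈ Z := by
    rw [hnv]
    exact Z.add_mem (hZ.1 v hvZ) hvZ
  have F5 : nv = Xl x v0 + v0 := by
    rw [hnv, hvd, map_add, map_smul, F2']
    have h := add_self_V (c • (Xl x v0 + v0))
    calc Xl x v0 + c • (Xl x v0 + v0) + (v0 + c • (Xl x v0 + v0))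
        = (Xl x v0 + v0) + (c • (Xl x v0 + v0) + c • (Xl x v0 + v0)) := by abel
      _ = Xl x v0 + v0 := by rw [h, add_zero]
  have F7 : polar (plusQ d F) u nv = polar (plusQ d F) n v0 := by
    rw [F5, ← F1, ← hn]
  have F6 : polar (plusQ d F) u v = 0 := by
    rw [hvd, polar_add_right, polar_smul_right, ← F1, ← hn, smul_eq_mul, hcm]
    exact CharTwo.add_self_eq_zero _
  have F8 : polar (plusQ d F) v n = polar (plusQ d F) n v0 := by
    have h9 : polar (plusQ d F) n (Xl x v0 + v0) = 0 := by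
      rw [← F1, hn, F2]
      simp
    rw [polar_comm, hvd, polar_add_right, polar_smul_right, h9, smul_zero, add_zero]
  have hQn : plusQ d F n = 0 := by
    rw [hn]
    exact F3 u hu
  have hQnv : plusQ d F nv = 0 := by
    rw [hnv]
    exact F3 v hvZ
  have hne1 : polar (plusQ d F) u nv ≠ 0 := by
    rw [F7]
    exact hβ
  have hne2 : polar (plusQ d F) v n ≠ 0 := by
    rw [F8]
    exact hβ
  obtain ⟨a1, a2, a3⟩ := plane u nv hne1 hQnv
  obtain ⟨b1, b2, b3⟩ := plane v n hne2 hQn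
  have o1 : polar (plusQ d F) u n = 0 := by
    rw [hn]
    exact F4 u hu
  have o2 : polar (plusQ d F) nv v = 0 := by
    rw [polar_comm, hnv]
    exact F4 v hvZ
  have o3 : polar (plusQ d F) nv n = 0 := by
    rw [hnv, F1, hn, F2]
    simp
  have horth : ∀ a ∈ Submodule.span F {u} ⊔ Submodule.span F {nv},
      ∀ b ∈ Submodule.span F {v} ⊔ Submodule.span F {n}, polar (plusQ d F) a b = 0 := by
    intro a ha b hb
    obtain ⟨w1, hw1, w2, hw2, rfl⟩ := Submodule.mem_sup.mp ha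
    obtain ⟨s, rfl⟩ := Submodule.mem_span_singleton.mp hw1
    obtain ⟨t, rfl⟩ := Submodule.mem_span_singleton.mp hw2
    obtain ⟨z1, hz1, z2, hz2, rfl⟩ := Submodule.mem_sup.mp hb
    obtain ⟨s', rfl⟩ := Submodule.mem_span_singleton.mp hz1
    obtain ⟨t', rfl⟩ := Submodule.mem_span_singleton.mp hz2
    simp only [polar_add_left, polar_add_right, polar_smul_left, polar_smul_right, F6, o1, o2,
      o3, smul_zero, add_zero]
  obtain ⟨g1, g2, g3⟩ := glue _ _ a1 b1 horth a2 b2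
  have mu : u ∈ Submodule.span F {u} ⊔ Submodule.span F {nv} ⊔
      (Submodule.span F {v} ⊔ Submodule.span F {n}) :=
    Submodule.mem_sup_left (Submodule.mem_sup_left (Submodule.mem_span_singleton_self u))
  have mnv : nv ∈ Submodule.span F {u} ⊔ Submodule.span F {nv} ⊔
      (Submodule.span F {v} ⊔ Submodule.span F {n}) :=
    Submodule.mem_sup_left (Submodule.mem_sup_right (Submodule.mem_span_singleton_self nv))
  have mv : v ∈ Submodule.span F {u} ⊔ Submodule.span F {nv} ⊔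
      (Submodule.span F {v} ⊔ Submodule.span F {n}) :=
    Submodule.mem_sup_right (Submodule.mem_sup_left (Submodule.mem_span_singleton_self v))
  have mn : n ∈ Submodule.span F {u} ⊔ Submodule.span F {nv} ⊔
      (Submodule.span F {v} ⊔ Submodule.span F {n}) :=
    Submodule.mem_sup_right (Submodule.mem_sup_right (Submodule.mem_span_singleton_self n))
  refine ⟨_, sup_le (sup_le ?_ ?_) (sup_le ?_ ?_), ⟨?_, g1, g2⟩, by omega⟩
  · rw [Submodule.span_singleton_le_iff_mem]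
    exact hu
  · rw [Submodule.span_singleton_le_iff_mem]
    exact hnvZ
  · rw [Submodule.span_singleton_le_iff_mem]
    exact hvZ
  · rw [Submodule.span_singleton_le_iff_mem]
    exact hnZ
  · intro w hw
    obtain ⟨w1, hw1, w2, hw2, rfl⟩ := Submodule.mem_sup.mp hw
    obtain ⟨a, ha, b, hb, rfl⟩ := Submodule.mem_sup.mp hw1
    obtain ⟨s, rfl⟩ := Submodule.mem_span_singleton.mp ha
    obtain ⟨t, rfl⟩ := Submodule.mem_span_singleton.mp hb
    obtain ⟨a', ha', b', hb', rfl⟩ := Submodule.mem_sup.mp hw2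
    obtain ⟨s', rfl⟩ := Submodule.mem_span_singleton.mp ha'
    obtain ⟨t', rfl⟩ := Submodule.mem_span_singleton.mp hb'
    have xu : Xl x u = n - u := by
      rw [hn]
      abel
    have xv : Xl x v = nv - v := by
      rw [hnv]
      abel
    have xn : Xl x n = n := by
      rw [hn]
      exact F2' u
    have xnv : Xl x nv = nv := by
      rw [hnv]
      exact F2' v
    simp only [map_add, map_smul, xu, xv, xn, xnv]
    exact Submodule.add_mem _
      (Submodule.add_mem _ (Submodule.smul_mem _ _ (Submodule.sub_mem _ mn mu))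
        (Submodule.smul_mem _ _ mnv))
      (Submodule.add_mem _ (Submodule.smul_mem _ _ (Submodule.sub_mem _ mnv mv))
        (Submodule.smul_mem _ _ mn))

theorem dich [CharP F 2] (x : Matrix.GeneralLinearGroup (P d) F)
    (hx : x ∈ Cfsg.isometryGroup F (Cfsg.quadFormPlus d F))
    (hQ : ∀ v, plusQ d F (Xl x v) = plusQ d F v) (hXX : ∀ v, Xl x (Xl x v) = v)
    (Z : Submodule F (P d → F)) (hZ : Good x Z) :
    (∀ u ∈ Z, Xl x u = u) ∨
    (∃ X4 : Submodule F (P d → F), X4 ≤ Z ∧ Good x X4 ∧ finrank F ↥X4 = 4) ∨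
    (∃ Pl : Submodule F (P d → F), Pl ≤ Z ∧ Good x Pl ∧ finrank F ↥Pl = 2 ∧
      ∃ Z1 : Submodule F (P d → F), Z1 ≤ Z ∧ Good x Z1 ∧
        finrank F ↥Pl + finrank F ↥Z1 = finrank F ↥Z ∧ ∀ u ∈ Z1, Xl x u = u) := by
  by_cases h1 : ∃ v ∈ Z, polar (plusQ d F) v (Xl x v) ≠ 0
  · obtain ⟨v, hv, hne⟩ := h1
    obtain ⟨Pl, hPZ, hP, hPf⟩ := planeB x hQ hXX Z hZ v hv hne
    obtain ⟨Z1, hZ1Z, hZ1, hperp, hf⟩ := perp_in x hx Z Pl hZ hP hPZ
    by_cases h2 : ∃ v ∈ Z1, polar (plusQ d F) v (Xl x v) ≠ 0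
    · obtain ⟨v', hv', hne'⟩ := h2
      obtain ⟨Pl', hPZ', hP', hPf'⟩ := planeB x hQ hXX Z1 hZ1 v' hv' hne'
      obtain ⟨g1, g2, g3⟩ := glue Pl Pl' hP.2.1 hP'.2.1
        (fun a ha b hb => hperp a ha b (hPZ' hb)) hP.2.2 hP'.2.2
      right; left
      exact ⟨Pl ⊔ Pl', sup_le hPZ (hPZ'.trans hZ1Z),
        ⟨stab_sup x Pl Pl' hP.1 hP'.1, g1, g2⟩, by omega⟩
    · push_neg at h2
      by_cases h3 : ∀ u ∈ Z1, Xl x u = u
      · right; right
        exact ⟨Pl, hPZ, hP, hPf, Z1, hZ1Z, hZ1, hf, h3⟩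
      · push_neg at h3
        obtain ⟨u, hu, hun⟩ := h3
        obtain ⟨X4, hX4, hX4g, hX4f⟩ := fourC x hQ hXX Z1 hZ1 h2 u hu hun
        right; left
        exact ⟨X4, hX4.trans hZ1Z, hX4g, hX4f⟩
  · push_neg at h1
    by_cases h3 : ∀ u ∈ Z, Xl x u = u
    · left
      exact h3
    · push_neg at h3
      obtain ⟨u, hu, hun⟩ := h3
      right; left
      exact fourC x hQ hXX Z hZ h1 u hu hun

theorem main_ind [CharP F 2] (x : Matrix.GeneralLinearGroup (P d) F)
    (hx : x ∈ Cfsg.isometryGroup F (Cfsg.quadFormPlus d F))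
    (hQ : ∀ v, plusQ d F (Xl x v) = plusQ d F v) (hXX : ∀ v, Xl x (Xl x v) = v) :
    ∀ e : ℕ, ∀ Z : Submodule F (P d → F), Good x Z → finrank F ↥Z = 2 * e →
      ∀ m : ℕ, Even m → m ≤ 2 * e → (m % 4 = 0 ∨ Odd e) →
      ∃ W : Submodule F (P d → F), W ≤ Z ∧ Good x W ∧ finrank F ↥W = m := by
  intro e
  induction e using Nat.strong_induction_on with
  | _ e ih =>
  intro Z hZ hfr m hm hme hcond
  by_cases hm0 : m = 0
  · subst hm0
    exact ⟨⊥, bot_le, good_bot x, finrank_bot F _⟩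
  by_cases hmZ : m = 2 * e
  · exact ⟨Z, le_refl Z, hZ, by rw [hfr, hmZ]⟩
  have hm2 : 2 ≤ m := by
    obtain ⟨k, hk⟩ := hm
    omega
  have hmlt : m + 2 ≤ 2 * e := by
    obtain ⟨k, hk⟩ := hm
    omega
  rcases dich x hx hQ hXX Z hZ with hfix | ⟨X4, hX4Z, hX4, hX4f⟩ |
    ⟨Pl, hPZ, hP, hPf, Z1, hZ1Z, hZ1, hZ1f, hfix⟩
  · exact sub_fix x Z hZ.2.1 hfix m hm hm2 (by omega)
  · obtain ⟨Z1, hZ1Z, hZ1, hperp, hf⟩ := perp_in x hx Z X4 hZ hX4 hX4Z
    have he2 : 2 ≤ e := by omega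
    have hZ1f : finrank F ↥Z1 = 2 * (e - 2) := by omega
    by_cases hle : m ≤ 2 * (e - 2)
    · obtain ⟨W, hW, hWg, hWf⟩ := ih (e - 2) (by omega) Z1 hZ1 hZ1f m hm hle (by
        rcases hcond with h | h
        · exact Or.inl h
        · right
          obtain ⟨k, hk⟩ := h
          exact ⟨k - 1, by omega⟩)
      exact ⟨W, hW.trans hZ1Z, hWg, hWf⟩
    · have hm4 : m % 4 = 0 := by
        rcases hcond with h | h
        · exact h
        · obtain ⟨k, hk⟩ := h
          obtain ⟨j, hj⟩ := hm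
          omega
      obtain ⟨W, hW, hWg, hWf⟩ := ih (e - 2) (by omega) Z1 hZ1 hZ1f (m - 4) (by
          obtain ⟨j, hj⟩ := hm
          exact ⟨j - 2, by omega⟩) (by omega) (Or.inl (by omega))
      obtain ⟨g1, g2, g3⟩ := glue X4 W hX4.2.1 hWg.2.1
        (fun a ha b hb => hperp a ha b (hW hb)) hX4.2.2 hWg.2.2
      exact ⟨X4 ⊔ W, sup_le hX4Z (hW.trans hZ1Z),
        ⟨stab_sup x X4 W hX4.1 hWg.1, g1, g2⟩, by omega⟩
  · by_cases hmm : m = 2 * e - 2
    · exact ⟨Z1, hZ1Z, hZ1, by omega⟩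
    · obtain ⟨W, hW, hWg, hWf⟩ := sub_fix x Z1 hZ1.2.1 hfix m hm hm2 (by omega)
      exact ⟨W, hW.trans hZ1Z, hWg, hWf⟩

theorem main : Cfsg.Agent.Lib.Helper40.HPStmt.C2Fix.{u} := by
  intro F _ _ _ d m hd hm2 hm hmd hcond x hx hxx
  have hQ : ∀ v, plusQ d F (Xl x v) = plusQ d F v := by
    intro v
    have h := hx v v
    exact h
  have hXX : ∀ v, Xl x (Xl x v) = v := by
    intro v
    show Matrix.toLin' (x : Matrix (P d) (P d) F)
      (Matrix.toLin' (x : Matrix (P d) (P d) F) v) = v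
    rw [Matrix.toLin'_apply, Matrix.toLin'_apply, Matrix.mulVec_mulVec, hxx, Matrix.one_mulVec]
  have htop := Cfsg.Agent.Lib.Helper47.TPTOP.main F d
  have hgood : Good x ⊤ := ⟨fun v _ => Submodule.mem_top, (nd_iff ⊤).mp htop.1, htop.2⟩
  have hfr : finrank F ↥(⊤ : Submodule F (P d → F)) = 2 * d := by
    rw [finrank_top, Module.finrank_fintype_fun_eq_card, Fintype.card_sum, Fintype.card_fin]
    omega
  obtain ⟨W, -, hWg, hWf⟩ := main_ind x hx hQ hXX d ⊤ hgood hfr m hm (by omega) hcond.symm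
  exact ⟨W, (hypJ_iff d m W).mpr ⟨hWf, (nd_iff W).mpr hWg.2.1, hWg.2.2⟩,
    (stab_iff x W).mpr hWg.1⟩

end Cfsg.Agent.Lib.Helper94.HPC2FIX
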