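import Mathlib
import Cfsg.Prelude.Def_GeometricClasses
import Cfsg.Agent.Lib.Helper94.Basic

set_option autoImplicit false

namespace Cfsg.Agent.Lib.Helper94.Herm2

open scoped Matrix
open Cfsg.Agent.Lib.Helper94.Basic

section HermTwo

variable {F : Type*} [Field F] {n : ℕ}

lemma herm_add_left (q : ℕ) (u u' v : Fin n → F) :
    Cfsg.hermForm n F q (u + u') v = Cfsg.hermForm n F q u v + Cfsg.hermForm n F q u' v := by
  simp [Cfsg.hermForm, add_mul, Finset.sum_add_distrib]

lemma herm_smul_left (q : ℕ) (c : F) (u v : Fin n → F) :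
    Cfsg.hermForm n F q (c • u) v = c * Cfsg.hermForm n F q u v := by
  simp [Cfsg.hermForm, Finset.mul_sum, mul_assoc]

@[simp] lemma herm_zero_left (q : ℕ) (v : Fin n → F) : Cfsg.hermForm n F q 0 v = 0 := by
  simp [Cfsg.hermForm]

lemma herm2_add_right [CharP F 2] (u v v' : Fin n → F) :
    Cfsg.hermForm n F 2 u (v + v') = Cfsg.hermForm n F 2 u v + Cfsg.hermForm n F 2 u v' := by
  simp [Cfsg.hermForm, CharTwo.add_sq, mul_add, Finset.sum_add_distrib]

lemma herm2_smul_right (c : F) (u v : Fin n → F) :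
    Cfsg.hermForm n F 2 u (c • v) = c ^ 2 * Cfsg.hermForm n F 2 u v := by
  simp only [Cfsg.hermForm, Pi.smul_apply, smul_eq_mul, Finset.mul_sum]
  apply Finset.sum_congr rfl
  intro i _
  ring

@[simp] lemma herm2_zero_right (u : Fin n → F) : Cfsg.hermForm n F 2 u 0 = 0 := by
  simp [Cfsg.hermForm]

lemma herm2_symm [CharP F 2] (h4 : ∀ x : F, x ^ 4 = x) (u v : Fin n → F) :
    Cfsg.hermForm n F 2 v u = (Cfsg.hermForm n F 2 u v) ^ 2 := by
  simp only [Cfsg.hermForm]
  rw [CharTwo.sum_sq]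
  apply Finset.sum_congr rfl
  intro i _
  have h := h4 (v i)
  calc v i * u i ^ 2 = v i ^ 4 * u i ^ 2 := by rw [h]
    _ = (u i * v i ^ 2) ^ 2 := by ring

lemma herm2_self_sq [CharP F 2] (h4 : ∀ x : F, x ^ 4 = x) (v : Fin n → F) :
    (Cfsg.hermForm n F 2 v v) ^ 2 = Cfsg.hermForm n F 2 v v :=
  (herm2_symm h4 v v).symm

lemma herm2_self_zero_or_one [CharP F 2] (h4 : ∀ x : F, x ^ 4 = x) (v : Fin n → F) :
    Cfsg.hermForm n F 2 v v = 0 ∨ Cfsg.hermForm n F 2 v v = 1 := by
  have h := herm2_self_sq h4 v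
  have h' : Cfsg.hermForm n F 2 v v * (Cfsg.hermForm n F 2 v v - 1) = 0 := by
    linear_combination h
  rcases mul_eq_zero.mp h' with h1 | h1
  · exact Or.inl h1
  · exact Or.inr (sub_eq_zero.mp h1)

lemma mem_GU_iff (q : ℕ) (g : Matrix.GeneralLinearGroup (Fin n) F) :
    g ∈ Cfsg.GU n F q ↔ ∀ u v, Cfsg.hermForm n F q ((g : Matrix _ _ F) *ᵥ u) ((g : Matrix _ _ F) *ᵥ v)
      = Cfsg.hermForm n F q u v := Iff.rfl

/-- The linear map `x ↦ x + h(x, u) u` for the form `hermForm n F 2`. -/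
def tvLin (u : Fin n → F) : (Fin n → F) →ₗ[F] (Fin n → F) where
  toFun x := x + (Cfsg.hermForm n F 2 x u) • u
  map_add' x y := by
    rw [herm_add_left, add_smul]; abel
  map_smul' a x := by
    simp only [herm_smul_left, RingHom.id_apply, smul_add, smul_smul]

@[simp] lemma tvLin_apply (u x : Fin n → F) :
    tvLin u x = x + (Cfsg.hermForm n F 2 x u) • u := rfl

lemma tvLin_comp [CharP F 2] (u : Fin n → F) (hu : Cfsg.hermForm n F 2 u u = 0) :
    tvLin u ∘ₗ tvLin u = LinearMap.id := by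
  apply LinearMap.ext
  intro x
  simp only [LinearMap.comp_apply, tvLin_apply, herm_add_left, herm_smul_left, hu, mul_zero,
    add_zero, LinearMap.id_apply]
  rw [add_assoc, ← add_smul, CharTwo.add_self_eq_zero, zero_smul, add_zero]

/-- The unitary transvection `x ↦ x + h(x, u) u` (for isotropic `u`, in characteristic 2). -/
def tv [CharP F 2] (u : Fin n → F) (hu : Cfsg.hermForm n F 2 u u = 0) :
    Matrix.GeneralLinearGroup (Fin n) F :=
  glOfLin (tvLin u) (tvLin u) (tvLin_comp u hu) (tvLin_comp u hu)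

@[simp] lemma tv_mulVec [CharP F 2] (u : Fin n → F) (hu : Cfsg.hermForm n F 2 u u = 0)
    (x : Fin n → F) :
    ((tv u hu : Matrix.GeneralLinearGroup (Fin n) F) : Matrix _ _ F) *ᵥ x
      = x + (Cfsg.hermForm n F 2 x u) • u := by
  simp [tv]

lemma tv_mul_self [CharP F 2] (u : Fin n → F) (hu : Cfsg.hermForm n F 2 u u = 0) :
    tv u hu * tv u hu = 1 := by
  apply Units.ext
  simp only [tv, glOfLin, Units.val_mul, Units.val_one]
  rw [← LinearMap.toMatrix'_comp, tvLin_comp u hu, LinearMap.toMatrix'_id]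

lemma tv_mem_GU [CharP F 2] (h4 : ∀ x : F, x ^ 4 = x) (u : Fin n → F)
    (hu : Cfsg.hermForm n F 2 u u = 0) : tv u hu ∈ Cfsg.GU n F 2 := by
  rw [mem_GU_iff]
  intro x y
  simp only [tv_mulVec, herm_add_left, herm2_add_right, herm_smul_left, herm2_smul_right, hu,
    mul_zero, add_zero]
  rw [herm2_symm h4 y u]
  have h2 : (2 : F) = 0 := CharTwo.two_eq_zero
  linear_combination (Cfsg.hermForm n F 2 x u * Cfsg.hermForm n F 2 y u ^ 2) * h2

lemma mem_specialLinear_of_mul_self [CharP F 2] (g : Matrix.GeneralLinearGroup (Fin n) F)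
    (hg : g * g = 1) : g ∈ Cfsg.Geo.specialLinear (Fin n) F := by
  unfold Cfsg.Geo.specialLinear
  rw [MonoidHom.mem_ker]
  have h1 : Matrix.GeneralLinearGroup.det g * Matrix.GeneralLinearGroup.det g = 1 := by
    rw [← map_mul, hg, map_one]
  have h2 : ((Matrix.GeneralLinearGroup.det g : Fˣ) : F) * ((Matrix.GeneralLinearGroup.det g : Fˣ) : F)
      = 1 := by
    rw [← Units.val_mul, h1, Units.val_one]
  apply Units.ext
  rw [Units.val_one]
  have h3 : (((Matrix.GeneralLinearGroup.det g : Fˣ) : F) - 1) ^ 2 = 0 := by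
    have h2' : (2 : F) = 0 := CharTwo.two_eq_zero
    linear_combination h2 - (((Matrix.GeneralLinearGroup.det g : Fˣ) : F) - 1) * h2'
  exact sub_eq_zero.mp (pow_eq_zero_iff (two_ne_zero) |>.mp h3)

lemma tv_mem_SL [CharP F 2] (u : Fin n → F) (hu : Cfsg.hermForm n F 2 u u = 0) :
    tv u hu ∈ Cfsg.Geo.specialLinear (Fin n) F :=
  mem_specialLinear_of_mul_self _ (tv_mul_self u hu)

end HermTwo

end Cfsg.Agent.Lib.Helper94.Herm2
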