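import Mathlib
import Cfsg.Prelude.Def_GeometricClasses
import Cfsg.Agent.Lib.Helper94.Basic
import Cfsg.Agent.Lib.Helper94.Herm2

set_option autoImplicit false

namespace Cfsg.Agent.Lib.Helper94.HermStd

open scoped Matrix
open Cfsg.Agent.Lib.Helper94.Basic Cfsg.Agent.Lib.Helper94.Herm2

section Std

variable {F : Type*} [Field F] [Fintype F] {n q : ℕ}

lemma q_two_le (hF : Fintype.card F = q ^ 2) : 2 ≤ q := by
  have h1 : 1 < Fintype.card F := Fintype.one_lt_card
  rw [hF] at h1
  by_contra hlt
  push Not at hlt
  interval_cases q <;> simp at h1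

/-- The `q`-power map is additive when `|F| = q²`. -/
lemma pow_q_add (hF : Fintype.card F = q ^ 2) (x y : F) : (x + y) ^ q = x ^ q + y ^ q := by
  obtain ⟨p, hp⟩ := CharP.exists F
  have hp' : CharP F p := hp
  have hpr : Fact p.Prime := ⟨CharP.char_is_prime F p⟩
  obtain ⟨m, hm⟩ := FiniteField.card F p
  have hdvd : q ∣ p ^ (m : ℕ) := by
    rw [← hm.2, hF]
    exact dvd_pow_self q (by norm_num)
  obtain ⟨j, -, hj⟩ := (Nat.dvd_prime_pow hpr.out).mp hdvd
  rw [hj]
  exact add_pow_char_pow x y p j

/-- The `q`-power ring homomorphism of the field with `q²` elements. -/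
def frobHom (hF : Fintype.card F = q ^ 2) : F →+* F where
  toFun := fun x => x ^ q
  map_one' := one_pow q
  map_mul' := fun x y => mul_pow x y q
  map_zero' := zero_pow (by have := q_two_le hF; omega)
  map_add' := pow_q_add hF

lemma frobHom_bij (hF : Fintype.card F = q ^ 2) : Function.Bijective (frobHom hF) := by
  have hinj : Function.Injective (frobHom hF) := by
    intro x y hxy
    have h : x ^ q = y ^ q := hxy
    have h1 : (x ^ q) ^ q = (y ^ q) ^ q := by rw [h]
    rw [← pow_mul, ← pow_mul, ← sq, ← hF, FiniteField.pow_card, FiniteField.pow_card] at h1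
    exact h1
  exact ⟨hinj, Finite.surjective_of_injective hinj⟩

/-- The `q`-power automorphism of the field with `q²` elements. -/
noncomputable def frobQ (hF : Fintype.card F = q ^ 2) : F ≃+* F :=
  RingEquiv.ofBijective (frobHom hF) (frobHom_bij hF)

@[simp] lemma frobQ_apply (hF : Fintype.card F = q ^ 2) (x : F) : frobQ hF x = x ^ q := rfl

lemma frobQ_invol (hF : Fintype.card F = q ^ 2) (x : F) : frobQ hF (frobQ hF x) = x := by
  rw [frobQ_apply, frobQ_apply, ← pow_mul, ← sq, ← hF, FiniteField.pow_card]

lemma frobQ_ne_refl (hF : Fintype.card F = q ^ 2) : frobQ hF ≠ RingEquiv.refl F := by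
  intro h
  have hq := q_two_le hF
  have hall : ∀ x : F, x ^ q = x := by
    intro x
    have := congrArg (fun e : F ≃+* F => e x) h
    simpa using this
  have hne : (Polynomial.X ^ q - Polynomial.X : Polynomial F) ≠ 0 :=
    FiniteField.X_pow_card_sub_X_ne_zero F (by omega)
  have hsub : (Finset.univ : Finset F).val ⊆ (Polynomial.X ^ q - Polynomial.X : Polynomial F).roots := by
    intro x _
    rw [Polynomial.mem_roots hne]
    simp [hall x]
  have hle := Polynomial.card_le_degree_of_subset_roots hsub
  rw [FiniteField.X_pow_card_sub_X_natDegree_eq F (by omega), Finset.card_univ, hF] at hle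
  nlinarith

lemma herm_symm (hF : Fintype.card F = q ^ 2) (v w : Fin n → F) :
    Cfsg.hermForm n F q v w = frobQ hF (Cfsg.hermForm n F q w v) := by
  simp only [Cfsg.hermForm]
  rw [map_sum]
  apply Finset.sum_congr rfl
  intro i _
  rw [map_mul, frobQ_apply, frobQ_apply, ← pow_mul, ← sq, ← hF, FiniteField.pow_card]
  ring

/-- The standard Hermitian form is a non-degenerate unitary form. -/
theorem hermForm_isUnitary (hF : Fintype.card F = q ^ 2) :
    Cfsg.Geo.IsUnitaryForm (frobQ hF) (Cfsg.hermForm n F q) where
  ne_refl := frobQ_ne_refl hF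
  involutive := frobQ_invol hF
  add_left := fun x y v => herm_add_left q x y v
  smul_left := fun c x v => herm_smul_left q c x v
  herm := herm_symm hF
  nondegenerate := by
    have hq := q_two_le hF
    intro v hv
    have hex : ∃ i, v i ≠ 0 := by
      by_contra hcon
      push Not at hcon
      exact hv (funext hcon)
    obtain ⟨i, hi⟩ := hex
    refine ⟨⟨Pi.single i 1, ?_⟩, ⟨Pi.single i 1, ?_⟩⟩
    · simp only [Cfsg.hermForm]
      rw [Finset.sum_eq_single i]
      · rw [Pi.single_eq_same, one_mul]
        exact pow_ne_zero q hi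
      · intro j _ hj
        simp [Pi.single_eq_of_ne hj]
      · intro h
        exact absurd (Finset.mem_univ i) h
    · simp only [Cfsg.hermForm]
      rw [Finset.sum_eq_single i]
      · simpa using hi
      · intro j _ hj
        rw [Pi.single_eq_of_ne hj, zero_pow (by omega), mul_zero]
      · intro h
        exact absurd (Finset.mem_univ i) h

end Std

end Cfsg.Agent.Lib.Helper94.HermStd
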