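import Cfsg.Agent.Lib.Helper94.OMiPStmt

/-!
# S5991, the `r = p` part: assembly of `PDerM` from the pieces of `OMiPStmt`
-/

set_option autoImplicit false

universe u

open scoped Matrix

namespace Cfsg.Agent.Lib.Helper94.OMiPAsm

open Cfsg.Agent.Lib.Helper94.OMiPStmt

theorem pder_of (hEA : MPEltA.{u}) (hFA : MPFixA.{u}) (hEB : MPEltB.{u}) (hFB : MPFixB.{u})
    (hEC : MPEltC.{u}) (hFC : MPFixC.{u}) (hC1 : MChoose1.{u}) (hC3 : MChoose3.{u}) :
    PDerM.{u} := by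
  intro F _ _ p _ _ hodd d m hd hm hmd a b hab W₀ hW₀m hW₀nd
  have hiso : ∀ x : Matrix.GeneralLinearGroup (Mi d) F,
      x ∈ Cfsg.Geo.omegaGL (Cfsg.quadFormMinus (d - 1) F a b) →
      x ∈ Cfsg.isometryGroup F (Cfsg.quadFormMinus (d - 1) F a b) := by
    intro x hx
    obtain ⟨y, -, rfl⟩ := hx
    exact y.2
  have hm4 : m % 4 = 1 ∨ m % 4 = 3 := by
    obtain ⟨k, rfl⟩ := hm
    omega
  rcases Nat.even_or_odd d with hde | hdo
  · rcases hm4 with h1 | h3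
    · obtain ⟨β, hβ, hno⟩ := hC1 F hodd d m (by omega) hm a b hab W₀ hW₀m hW₀nd
      obtain ⟨x, hxΩ, hxp, hr2, hr1, hfix⟩ := hEC F p hodd d hd hde a b hab β hβ
      refine ⟨x, hxΩ, hxp, ?_⟩
      intro W hW hS
      rcases hFC F hodd d m (by omega) hm a b hab x (hiso x hxΩ) hr2 hr1 β hfix W
        hW.1 hW.2.1 hS with ⟨_, hT⟩ | ⟨h3, _⟩
      · exact hno W hW hT
      · obtain ⟨e, he⟩ := hde
        omega
    · obtain ⟨β, hβ, hno⟩ := hC3 F hodd d m (by omega) hm a b hab W₀ hW₀m hW₀nd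
      obtain ⟨x, hxΩ, hxp, hr2, hr1, hfix⟩ := hEC F p hodd d hd hde a b hab β hβ
      refine ⟨x, hxΩ, hxp, ?_⟩
      intro W hW hS
      rcases hFC F hodd d m (by omega) hm a b hab x (hiso x hxΩ) hr2 hr1 β hfix W
        hW.1 hW.2.1 hS with ⟨h1, _⟩ | ⟨_, U, hU, _, hT⟩
      · omega
      · exact hno W hW U hU hT
  · rcases hm4 with h1 | h3
    · obtain ⟨x, hxΩ, hxp, hle, hN3, hrk⟩ := hEB F p hodd d (by omega) hdo a b hab
      refine ⟨x, hxΩ, hxp, ?_⟩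
      intro W hW hS
      have h3 := hFB F hodd d m (by omega) hm a b hab x (hiso x hxΩ) hle hN3 hrk W
        hW.1 hW.2.1 hS
      omega
    · obtain ⟨x, hxΩ, hxp, hle, hrk⟩ := hEA F p hodd d (by omega) hdo a b hab
      refine ⟨x, hxΩ, hxp, ?_⟩
      intro W hW hS
      have h1 := (hFA F hodd d m (by omega) hm a b hab x (hiso x hxΩ) hle W
        hW.1 hW.2.1 hS).2 hrk
      omega

end Cfsg.Agent.Lib.Helper94.OMiPAsm
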