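import Mathlib
import Cfsg.Agent.Lib.Helper44.PGStmt
import Cfsg.Agent.Lib.Helper44.NegPairs
import Cfsg.Agent.S2618

/-!
# S2474, piece OSIM (helper94)

Every nondegenerate quadratic form in dimension `2n + 1` over a finite field of odd
characteristic is similar to the standard one.
-/

set_option autoImplicit false

namespace Cfsg.Agent.Lib.Helper94.PGOSIM

open Matrix Module QuadraticMap
open Cfsg.Agent.Lib.Helper44.QSpace Cfsg.Agent.Lib.Helper44.OExt
open Cfsg.Agent.Lib.Helper44.NegPairs Cfsg.Agent.Lib.Helper44.PGStmt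

universe u

/-- the polar form of the standard odd-dimensional form -/
theorem polar_odd (F : Type u) [Field F] (n : ℕ) (v w : Unit ⊕ (Fin n ⊕ Fin n) → F) :
    polar (oddQ n F) v w = 2 * v (Sum.inl ()) * w (Sum.inl ()) +
      ∑ i : Fin n, (v (Sum.inr (Sum.inl i)) * w (Sum.inr (Sum.inr i)) +
        w (Sum.inr (Sum.inl i)) * v (Sum.inr (Sum.inr i))) := by
  have key : ∑ i : Fin n, (v (Sum.inr (Sum.inl i)) + w (Sum.inr (Sum.inl i))) *
        (v (Sum.inr (Sum.inr i)) + w (Sum.inr (Sum.inr i))) =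
      ∑ i : Fin n, v (Sum.inr (Sum.inl i)) * v (Sum.inr (Sum.inr i)) +
      ∑ i : Fin n, w (Sum.inr (Sum.inl i)) * w (Sum.inr (Sum.inr i)) +
      ∑ i : Fin n, (v (Sum.inr (Sum.inl i)) * w (Sum.inr (Sum.inr i)) +
        w (Sum.inr (Sum.inl i)) * v (Sum.inr (Sum.inr i))) := by
    rw [← Finset.sum_add_distrib, ← Finset.sum_add_distrib]
    apply Finset.sum_congr rfl
    intro i _
    ring
  rw [coe_oddQ]
  simp only [polar, Cfsg.quadFormOdd, Pi.add_apply]
  rw [key]
  ring

theorem main : OSim.{u} := by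
  intro F _ _ h2 n ι _ _ N hcard hdet
  classical
  have hfr : Module.finrank F (ι → F) = 2 * n + 1 := by
    rw [Module.finrank_fintype_fun_eq_card, hcard]
  have hS : Sep (qN N) := sep_qN hdet
  obtain ⟨b, hx, hxo, hsing, hef, hee⟩ :=
    Cfsg.Agent.S2618.result hfr (qN N) (nondegenerate_of_sep hS)
  obtain ⟨q0, hq0⟩ : ∃ q0 : F, q0 = qN N (b (Sum.inl ())) := ⟨_, rfl⟩
  rw [← hq0] at hx
  obtain ⟨b', hb'⟩ : ∃ b' : Basis (Unit ⊕ (Fin n ⊕ Fin n)) F (ι → F),
      b' = b.unitsSMul (Sum.elim (fun _ => 1) (Sum.elim (fun _ => 1)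
        (fun _ => Units.mk0 q0 hx))) := ⟨_, rfl⟩
  have hb'x : b' (Sum.inl ()) = b (Sum.inl ()) := by
    rw [hb', Basis.unitsSMul_apply]; simp
  have hb'e : ∀ i, b' (Sum.inr (Sum.inl i)) = b (Sum.inr (Sum.inl i)) := by
    intro i; rw [hb', Basis.unitsSMul_apply]; simp
  have hb'f : ∀ i, b' (Sum.inr (Sum.inr i)) = q0 • b (Sum.inr (Sum.inr i)) := by
    intro i; rw [hb', Basis.unitsSMul_apply]; simp [Units.smul_def]
  have hJ : ∀ k, b'.equivFun (b' k) = Pi.single k 1 := by
    intro k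
    ext l
    rw [Basis.equivFun_apply, Basis.repr_self, Finsupp.single_apply, Pi.single_apply]
    by_cases h : k = l
    · rw [if_pos h, if_pos h.symm]
    · rw [if_neg h, if_neg (fun h' => h h'.symm)]
  obtain ⟨Q₂, hQ₂⟩ : ∃ Q₂ : QuadraticForm F (ι → F),
      Q₂ = (oddQ n F).comp (b'.equivFun : (ι → F) →ₗ[F] (Unit ⊕ (Fin n ⊕ Fin n) → F)) :=
    ⟨_, rfl⟩
  have hQ₂app : ∀ u, Q₂ u = Cfsg.quadFormOdd n F (b'.equivFun u) := by
    intro u; rw [hQ₂]; rfl
  have hQ₂pol : ∀ u v, polar Q₂ u v = polar (oddQ n F) (b'.equivFun u) (b'.equivFun v) := by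
    intro u v
    simp only [polar, hQ₂app, map_add, coe_oddQ]
  have hxx : polar (qN N) (b (Sum.inl ())) (b (Sum.inl ())) = 2 * q0 := by
    rw [polar_self', hq0]
  have hpol : ∀ k l, polar Q₂ (b' k) (b' l) = q0⁻¹ * polar (qN N) (b' k) (b' l) := by
    intro k l
    rw [hQ₂pol, hJ, hJ, polar_odd]
    rcases k with _ | i | i <;> rcases l with _ | j | j
    · rw [hb'x, hxx]
      simp
      field_simp
    · rw [hb'x, hb'e, (hxo j).1]
      simp
    · rw [hb'x, hb'f, polar_smul_r, (hxo j).2]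
      simp
    · rw [hb'x, hb'e, polar_comm, (hxo i).1]
      simp
    · rw [hb'e, hb'e, (hee i j).1]
      simp
    · rw [hb'e, hb'f, polar_smul_r, hef i j]
      simp [Pi.single_apply]
      rw [inv_mul_cancel₀ hx]
      by_cases h : i = j
      · rw [if_pos h, if_pos h.symm]
      · rw [if_neg h, if_neg (fun h' => h h'.symm)]
    · rw [hb'x, hb'f, polar_smul_l, polar_comm, (hxo i).2]
      simp
    · rw [hb'e, hb'f, polar_smul_l, polar_comm, hef j i]
      simp [Pi.single_apply]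
      rw [inv_mul_cancel₀ hx]
      by_cases h : i = j
      · rw [if_pos h, if_pos h.symm]
      · rw [if_neg h, if_neg (fun h' => h h'.symm)]
    · rw [hb'f, hb'f, polar_smul_l, polar_smul_r, (hee i j).2]
      simp
  have hall : ∀ u v, polar Q₂ u v = q0⁻¹ * polar (qN N) u v := by
    have hB : polarBilin Q₂ = q0⁻¹ • polarBilin (qN N) := by
      apply LinearMap.BilinForm.ext_basis b'
      intro k l
      simp only [LinearMap.smul_apply, smul_eq_mul, polarBilin_apply_apply]
      exact hpol k l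
    intro u v
    have h := congrArg (fun B => B u v) hB
    simpa using h
  refine ⟨q0⁻¹, b'.equivFun, inv_ne_zero hx, ?_⟩
  intro u
  have h := hall u u
  rw [polar_self', polar_self'] at h
  rw [← hQ₂app]
  apply mul_left_cancel₀ h2
  rw [h]
  ring

end Cfsg.Agent.Lib.Helper94.PGOSIM
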