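import Mathlib
import Cfsg.Agent.Lib.Helper44.PGStmt
import Cfsg.Agent.Lib.Helper44.Omega2
import Cfsg.Agent.Lib.Helper44.OMat

/-!
# S2474, piece SQMEM (helper94)

The square of an isometry lies in `Ω` (odd characteristic): the isometry group is generated by
reflections, which are involutions.
-/

set_option autoImplicit false

namespace Cfsg.Agent.Lib.Helper94.PGSQMEM

open Matrix Module QuadraticMap
open Cfsg.Agent.Lib.Helper44.QSpace Cfsg.Agent.Lib.Helper44.OGroup Cfsg.Agent.Lib.Helper44.OMat
open Cfsg.Agent.Lib.Helper44.Spinor Cfsg.Agent.Lib.Helper44.Omega2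
open Cfsg.Agent.Lib.Helper44.PGStmt

universe u

/-- the square of a product of involutions lies in the commutator subgroup -/
theorem sq_mem_commutator_of_prod {G : Type*} [Group G] (l : List G)
    (hl : ∀ x ∈ l, x * x = 1) : l.prod ^ 2 ∈ commutator G := by
  rw [← Abelianization.ker_of, MonoidHom.mem_ker, map_pow]
  induction l with
  | nil => simp
  | cons x tl ih =>
    rw [List.prod_cons, map_mul, mul_pow, ih (fun y hy => hl y (List.mem_cons_of_mem x hy)),
      mul_one, pow_two, ← map_mul, hl x List.mem_cons_self, map_one]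

theorem main : SqMem.{u} := by
  intro F _ _ ι _ _ Q h2 hS g
  rw [mem_omega_iff, map_pow]
  have hcdp : CDP Q := cdp_of_two_ne_zero h2 hS
  obtain ⟨vs, hvs, hg⟩ := hcdp (isoEquiv Q g).1 (isoEquiv Q g).2
  have hg' : isoEquiv Q g = (vs.map (refl Q)).prod := by
    apply Subtype.ext
    rw [coe_prod_refl]
    exact hg
  rw [hg']
  apply sq_mem_commutator_of_prod
  intro x hx
  obtain ⟨v, hv, rfl⟩ := List.mem_map.mp hx
  exact refl_mul_self Q v

end Cfsg.Agent.Lib.Helper94.PGSQMEM
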