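import Mathlib
import Cfsg.Prelude.Def_OddOrderLocal

/-!
# S1382 / DNILP, pure core (helper35's call), second seat (helper94)

A complement `D` of `M_F` in `M'` is nilpotent when `M' / M_F` is nilpotent (last clause of S1355):
`D` embeds into the image of `M'` in `M / M_F`.
-/

set_option autoImplicit false

universe u

namespace Cfsg.Agent.Lib.Helper94.S82DNILPcore

theorem core {G : Type u} [Group G] [Finite G] (M D : Subgroup G)
    (hnil : Group.IsNilpotent
      ↥((commutator ↥M).map (QuotientGroup.mk' (Cfsg.fittingHall ↥M))))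
    (hD : Cfsg.IsComplIn (Cfsg.fittingHallOf M) D ⁅M, M⁆) : Group.IsNilpotent ↥D := by
  obtain ⟨hF, hDc, hinf, -⟩ := hD
  have hcomm : ⁅M, M⁆ = (commutator ↥M).map M.subtype := by
    rw [commutator_def, Subgroup.map_commutator, ← MonoidHom.range_eq_map, Subgroup.range_subtype]
  have hcM : ⁅M, M⁆ ≤ M := by
    rw [hcomm]
    rintro _ ⟨y, -, rfl⟩
    exact y.2
  have hDM : D ≤ M := hDc.trans hcM
  have hmem : ∀ x : ↥D,
      ((QuotientGroup.mk' (Cfsg.fittingHall ↥M)).comp (Subgroup.inclusion hDM)) x ∈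
        (commutator ↥M).map (QuotientGroup.mk' (Cfsg.fittingHall ↥M)) := by
    intro x
    have hx : (x : G) ∈ (commutator ↥M).map M.subtype := by
      rw [← hcomm]
      exact hDc x.2
    obtain ⟨y, hy, hyx⟩ := hx
    have hxy : Subgroup.inclusion hDM x = y := Subtype.ext hyx.symm
    rw [MonoidHom.comp_apply, hxy]
    exact Subgroup.mem_map_of_mem _ hy
  let φ : ↥D →* ↥((commutator ↥M).map (QuotientGroup.mk' (Cfsg.fittingHall ↥M))) :=
    MonoidHom.codRestrict
      ((QuotientGroup.mk' (Cfsg.fittingHall ↥M)).comp (Subgroup.inclusion hDM)) _ hmem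
  haveI := hnil
  apply isNilpotent_of_ker_le_center φ
  intro x hx
  have h1 : φ x = 1 := MonoidHom.mem_ker.mp hx
  have h2 : (QuotientGroup.mk' (Cfsg.fittingHall ↥M)) (Subgroup.inclusion hDM x) = 1 :=
    congrArg Subtype.val h1
  rw [QuotientGroup.mk'_apply, QuotientGroup.eq_one_iff] at h2
  have h3 : (x : G) ∈ Cfsg.fittingHallOf M := ⟨_, h2, rfl⟩
  have h4 : (x : G) ∈ Cfsg.fittingHallOf M ⊓ D := Subgroup.mem_inf.mpr ⟨h3, x.2⟩
  rw [hinf, Subgroup.mem_bot] at h4
  have h5 : x = 1 := Subtype.ext h4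
  rw [h5]
  exact Subgroup.one_mem _

end Cfsg.Agent.Lib.Helper94.S82DNILPcore
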