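import Mathlib
import Cfsg.Agent.Lib.Helper44.SPStmt
import Cfsg.Agent.Lib.Helper44.OTyp1
import Cfsg.Agent.Lib.Helper45.OmegaAutSim

/-!
# S2720, piece SIMEX (helper94)

A nondegenerate quadratic space of even dimension over a finite field of odd characteristic has
a similarity with non-square multiplier.
-/

set_option autoImplicit false

namespace Cfsg.Agent.Lib.Helper94.SPSIMEX

open Matrix Module QuadraticMap
open Cfsg.Agent.Lib.Helper44.QSpace Cfsg.Agent.Lib.Helper44.OGroup Cfsg.Agent.Lib.Helper44.OMat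
open Cfsg.Agent.Lib.Helper45.OmegaAut Cfsg.Agent.Lib.Helper45.OmegaAutPsi
open Cfsg.Agent.Lib.Helper45.OmegaAutMain Cfsg.Agent.Lib.Helper45.OmegaInndiag
open Cfsg.Agent.Lib.Helper44.SPStmt

universe u

theorem main : SimEx.{u} := by
  intro F _ _ ι _ _ Q h2 hS k hk
  obtain ⟨ν, hν, hνF⟩ := Cfsg.Agent.Lib.Helper45.OmegaAutSim.exists_nonsquare_unit (F := F) h2
  have hν0 : (ν : F) ≠ 0 := ν.ne_zero
  have hne : Nonempty ι := by
    rw [← Fintype.card_pos_iff]; omega
  have hnt : Nontrivial (ι → F) := inferInstance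
  obtain ⟨v₀, hv₀⟩ := exists_ne_zero hS
  let Q1 : QuadraticForm F (ι → F) := (ν : F) • Q
  have hQ1 : ∀ v, Q1 v = (ν : F) * Q v := fun v => by
    show ((ν : F) • Q) v = _
    rw [QuadraticMap.smul_apply, smul_eq_mul]
  have hS1 : Sep Q1 := by
    intro x hx
    apply hS
    intro y
    have h := hx y
    simp only [QuadraticMap.polar] at h ⊢
    rw [hQ1, hQ1, hQ1] at h
    have h' : (ν : F) * (Q (x + y) - Q x - Q y) = 0 := by rw [← h]; ring
    exact (mul_eq_zero.mp h').resolve_left hν0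
  have hfin : finrank F (ι → F) = 2 * (k + 1) := by
    rw [Module.finrank_fintype_fun_eq_card, hk]
  have hc : Nat.card {v : ι → F // Q1 v = 0} = Nat.card {v : ι → F // Q v = 0} := by
    apply Nat.card_congr
    apply Equiv.subtypeEquivRight
    intro v
    rw [hQ1]
    constructor
    · intro h; exact (mul_eq_zero.mp h).resolve_left hν0
    · intro h; rw [h, mul_zero]
  obtain ⟨j, hj⟩ := Cfsg.Agent.Lib.Helper44.OTyp1.exists_iso Q1 Q hS1 hS hfin hfin hc
  obtain ⟨g, hg⟩ := Cfsg.Agent.Lib.Helper45.OmegaAutSim.exists_sim_of_linear Q hS hv₀ j ν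
    (fun v => by rw [hj, hQ1])
  exact ⟨g, by rw [hg]; exact hν⟩

end Cfsg.Agent.Lib.Helper94.SPSIMEX
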