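import Mathlib
import Cfsg.Prelude.Def_GeometricClasses
import Cfsg.Agent.Lib.Helper94.Basic
import Cfsg.Agent.Lib.Helper94.GLAux
import Cfsg.Agent.Lib.Helper94.Tv
import Cfsg.Agent.Lib.Helper94.Tv2
import Cfsg.Agent.Lib.Helper94.SympAbs

set_option autoImplicit false

namespace Cfsg.Agent.Lib.Helper94.SympGen

open scoped Matrix
open Cfsg.Agent.Lib.Helper94.Basic Cfsg.Agent.Lib.Helper94.GLAux Cfsg.Agent.Lib.Helper94.Tv
  Cfsg.Agent.Lib.Helper94.Tv2 Cfsg.Agent.Lib.Helper94.SympAbs

section Gen

variable {ι : Type} [Fintype ι] [DecidableEq ι] {F : Type*} [Field F]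
variable {f : (ι → F) → (ι → F) → F}

/-- The fixed space of an element of `GL`. -/
def fixSp (g : Matrix.GeneralLinearGroup ι F) : Submodule F (ι → F) :=
  LinearMap.ker (Matrix.toLin' (g : Matrix ι ι F) - LinearMap.id)

lemma mem_fixSp (g : Matrix.GeneralLinearGroup ι F) (x : ι → F) :
    x ∈ fixSp g ↔ (g : Matrix ι ι F) *ᵥ x = x := by
  unfold fixSp
  rw [LinearMap.mem_ker, LinearMap.sub_apply, Matrix.toLin'_apply, LinearMap.id_apply, sub_eq_zero]

/-- A vector outside a subspace is separated from it by the form. -/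
lemma exists_perp_ne (hf : Cfsg.Geo.IsSymplecticForm f) (U : Submodule F (ι → F)) (x : ι → F)
    (hx : x ∉ U) : ∃ r, (∀ u ∈ U, f u r = 0) ∧ f x r ≠ 0 := by
  obtain ⟨ψ, hψ1, hψ0⟩ := exists_dual_one hx
  obtain ⟨r, hr⟩ := exists_rep hf ψ
  refine ⟨r, fun u hu => ?_, ?_⟩
  · rw [← hr]; exact hψ0 u hu
  · rw [← hr, hψ1]; exact one_ne_zero

lemma st_fix (hf : Cfsg.Geo.IsSymplecticForm f) (a : ι → F) (c : F) (u : ι → F) (h : f u a = 0) :
    ((st hf a c : Matrix.GeneralLinearGroup ι F) : Matrix ι ι F) *ᵥ u = u := by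
  rw [st_mulVec, h]; simp

/-- A two-sided hyperbolic pair orthogonal to a given vector. -/
lemma exists_hyp_perp (hf : Cfsg.Geo.IsSymplecticForm f) (hcard : 3 ≤ Fintype.card ι) (v : ι → F) :
    ∃ y1 y2, f y1 v = 0 ∧ f y2 v = 0 ∧ f y1 y2 ≠ 0 := by
  have h1 : ¬ (LinearMap.ker (fR hf.bilinear v) ≤ Submodule.span F {v}) := by
    intro hle
    have h2 := Submodule.finrank_mono hle
    have h3 := LinearMap.finrank_range_add_finrank_ker (fR hf.bilinear v)
    have h4 : Module.finrank F (LinearMap.range (fR hf.bilinear v)) ≤ 1 := by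
      have := Submodule.finrank_le (LinearMap.range (fR hf.bilinear v))
      simpa using this
    have h5 : Module.finrank F (Submodule.span F {v}) ≤ 1 := by
      have := finrank_span_le_card (R := F) ({v} : Set (ι → F))
      simpa using this
    rw [Module.finrank_fintype_fun_eq_card] at h3
    omega
  obtain ⟨y1, hy1, hy1'⟩ := SetLike.not_le_iff_exists.mp h1
  rw [LinearMap.mem_ker, fR_apply] at hy1
  obtain ⟨y2, hy2, hy2'⟩ := exists_perp_ne hf _ y1 hy1'
  have h6 : f v y2 = 0 := hy2 v (Submodule.mem_span_singleton_self v)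
  refine ⟨y1, y2, hy1, ?_, hy2'⟩
  rw [hf.skew, h6, neg_zero]

/-- Dieudonne: every isometry lies in any subgroup containing all symplectic transvections. -/
theorem isom_mem_of_st (hf : Cfsg.Geo.IsSymplecticForm f)
    (M : Subgroup (Matrix.GeneralLinearGroup ι F)) (hM : ∀ a c, st hf a c ∈ M) :
    ∀ (n : ℕ) (g : Matrix.GeneralLinearGroup ι F),
      (∀ x y, f ((g : Matrix ι ι F) *ᵥ x) ((g : Matrix ι ι F) *ᵥ y) = f x y) →
      Fintype.card ι ≤ Module.finrank F (fixSp g) + n → g ∈ M := by
  intro n
  induction n with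
  | zero =>
    intro g _ hcard
    have htop : fixSp g = ⊤ := by
      apply Submodule.eq_top_of_finrank_eq
      have h1 := Submodule.finrank_le (fixSp g)
      rw [Module.finrank_fintype_fun_eq_card] at h1 ⊢
      omega
    have h1 : g = 1 := by
      apply gl_ext
      intro x
      have hx : x ∈ fixSp g := by rw [htop]; trivial
      rw [(mem_fixSp g x).mp hx]
      simp
    rw [h1]
    exact M.one_mem
  | succ n ih =>
    intro g hg hcard
    by_cases htop : fixSp g = ⊤
    · have h1 : g = 1 := by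
        apply gl_ext
        intro x
        have hx : x ∈ fixSp g := by rw [htop]; trivial
        rw [(mem_fixSp g x).mp hx]
        simp
      rw [h1]
      exact M.one_mem
    · have hex : ∃ x, x ∉ fixSp g := by
        by_contra hcon
        push_neg at hcon
        exact htop (eq_top_iff.mpr (fun x _ => hcon x))
      obtain ⟨x, hx⟩ := hex
      have hfix : ∀ u ∈ fixSp g, f u ((g : Matrix ι ι F) *ᵥ x) = f u x := by
        intro u hu
        have h1 := hg u x
        rwa [(mem_fixSp g u).mp hu] at h1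
      -- find h in M, an isometry fixing fixSp g pointwise, with h (g x) = x
      have key : ∃ h : Matrix.GeneralLinearGroup ι F, h ∈ M ∧
          (∀ a b, f ((h : Matrix ι ι F) *ᵥ a) ((h : Matrix ι ι F) *ᵥ b) = f a b) ∧
          (∀ u ∈ fixSp g, (h : Matrix ι ι F) *ᵥ u = u) ∧
          (h : Matrix ι ι F) *ᵥ ((g : Matrix ι ι F) *ᵥ x) = x := by
        by_cases hyx : f ((g : Matrix ι ι F) *ᵥ x) x = 0
        · -- two transvections
          have hy : (g : Matrix ι ι F) *ᵥ x ∉ fixSp g := by
            intro h1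
            apply hx
            rw [mem_fixSp] at h1 ⊢
            exact gl_mulVec_injective g h1
          obtain ⟨r1, hr1, hr1'⟩ := exists_perp_ne hf _ x hx
          obtain ⟨r2, hr2, hr2'⟩ := exists_perp_ne hf _ _ hy
          have hr : ∃ r, (∀ u ∈ fixSp g, f u r = 0) ∧ f x r ≠ 0 ∧
              f ((g : Matrix ι ι F) *ᵥ x) r ≠ 0 := by
            by_cases h1 : f ((g : Matrix ι ι F) *ᵥ x) r1 = 0
            · by_cases h2 : f x r2 = 0
              · refine ⟨r1 + r2, fun u hu => ?_, ?_, ?_⟩
                · rw [hf.bilinear.add_right, hr1 u hu, hr2 u hu, add_zero]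
                · rw [hf.bilinear.add_right, h2, add_zero]; exact hr1'
                · rw [hf.bilinear.add_right, h1, zero_add]; exact hr2'
              · exact ⟨r2, hr2, h2, hr2'⟩
            · exact ⟨r1, hr1, hr1', h1⟩
          obtain ⟨r, hr0, hrx, hry⟩ := hr
          have hyz : f ((g : Matrix ι ι F) *ᵥ x) (x + r) ≠ 0 := by
            rw [hf.bilinear.add_right, hyx, zero_add]; exact hry
          have hzx : f (x + r) x ≠ 0 := by
            rw [hf.bilinear.add_left, hf.alternating, zero_add, hf.skew]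
            exact neg_ne_zero.mpr hrx
          refine ⟨st hf (x + r - x) (f (x + r) x)⁻¹ *
            st hf ((g : Matrix ι ι F) *ᵥ x - (x + r)) (f ((g : Matrix ι ι F) *ᵥ x) (x + r))⁻¹,
            M.mul_mem (hM _ _) (hM _ _), ?_, ?_, ?_⟩
          · intro a b
            rw [Units.val_mul, ← Matrix.mulVec_mulVec, ← Matrix.mulVec_mulVec, st_isom hf,
              st_isom hf]
          · intro u hu
            rw [Units.val_mul, ← Matrix.mulVec_mulVec, st_fix hf _ _ u, st_fix hf _ _ u]
            · rw [bil_sub_right hf.bilinear, hf.bilinear.add_right, hr0 u hu]; ring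
            · rw [bil_sub_right hf.bilinear, hf.bilinear.add_right, hfix u hu, hr0 u hu]; ring
          · rw [Units.val_mul, ← Matrix.mulVec_mulVec, exists_map_of_ne hf _ _ hyz,
              exists_map_of_ne hf _ _ hzx]
        · refine ⟨st hf ((g : Matrix ι ι F) *ᵥ x - x) (f ((g : Matrix ι ι F) *ᵥ x) x)⁻¹, hM _ _,
            st_isom hf _ _, ?_, exists_map_of_ne hf _ _ hyx⟩
          intro u hu
          apply st_fix
          rw [bil_sub_right hf.bilinear, hfix u hu, sub_self]
      obtain ⟨h, hhM, hhiso, hhfix, hhx⟩ := key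
      have hk : h * g ∈ M := by
        apply ih
        · intro a b
          rw [Units.val_mul, ← Matrix.mulVec_mulVec, ← Matrix.mulVec_mulVec, hhiso, hg]
        · have hlt : fixSp g < fixSp (h * g) := by
            rw [SetLike.lt_iff_le_and_exists]
            refine ⟨?_, x, ?_, hx⟩
            · intro u hu
              rw [mem_fixSp, Units.val_mul, ← Matrix.mulVec_mulVec, (mem_fixSp g u).mp hu]
              exact hhfix u hu
            · rw [mem_fixSp, Units.val_mul, ← Matrix.mulVec_mulVec]
              exact hhx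
          have h1 := Submodule.finrank_lt_finrank_of_lt hlt
          omega
      have h2 : g = h⁻¹ * (h * g) := by group
      rw [h2]
      exact M.mul_mem (M.inv_mem hhM) hk

/-- A hyperbolic pair orthogonal to a subspace of small dimension. -/
lemma exists_hyp_perp_sub (hf : Cfsg.Geo.IsSymplecticForm f) (U : Submodule F (ι → F))
    (hU : 2 * Module.finrank F U < Fintype.card ι) :
    ∃ y1 y2, (∀ u ∈ U, f u y1 = 0) ∧ (∀ u ∈ U, f u y2 = 0) ∧ f y1 y2 ≠ 0 := by
  set Φ : (ι → F) →ₗ[F] Module.Dual F U := (Submodule.dualRestrict U) ∘ₗ (fRL hf.bilinear) with hΦ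
  have hker : ∀ y, y ∈ LinearMap.ker Φ ↔ ∀ u ∈ U, f u y = 0 := by
    intro y
    rw [LinearMap.mem_ker]
    constructor
    · intro h u hu
      have h1 := congrArg (fun ψ : Module.Dual F U => ψ ⟨u, hu⟩) h
      simpa [hΦ, fRL, Submodule.dualRestrict_apply] using h1
    · intro h
      apply LinearMap.ext
      intro u
      simpa [hΦ, fRL, Submodule.dualRestrict_apply] using h u.1 u.2
  have h1 : ¬ (LinearMap.ker Φ ≤ U) := by
    intro hle
    have h2 := Submodule.finrank_mono hle
    have h3 := LinearMap.finrank_range_add_finrank_ker Φ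
    have h4 : Module.finrank F (LinearMap.range Φ) ≤ Module.finrank F U := by
      have := Submodule.finrank_le (LinearMap.range Φ)
      rwa [Subspace.dual_finrank_eq] at this
    rw [Module.finrank_fintype_fun_eq_card] at h3
    omega
  obtain ⟨y1, hy1, hy1'⟩ := SetLike.not_le_iff_exists.mp h1
  obtain ⟨y2, hy2, hy2'⟩ := exists_perp_ne hf _ y1 hy1'
  exact ⟨y1, y2, (hker y1).mp hy1, hy2, hy2'⟩

/-- A hyperbolic pair orthogonal to two given vectors. -/
lemma exists_hyp_perp2 (hf : Cfsg.Geo.IsSymplecticForm f) (hcard : 5 ≤ Fintype.card ι)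
    (v w : ι → F) :
    ∃ y1 y2, f y1 v = 0 ∧ f y1 w = 0 ∧ f y2 v = 0 ∧ f y2 w = 0 ∧ f y1 y2 ≠ 0 := by
  classical
  have hU : 2 * Module.finrank F (Submodule.span F ((({v, w} : Finset (ι → F)) : Set (ι → F))))
      < Fintype.card ι := by
    have h1 : Module.finrank F (Submodule.span F ((({v, w} : Finset (ι → F)) : Set (ι → F))))
        ≤ ({v, w} : Finset (ι → F)).card := finrank_span_finset_le_card (R := F) _
    have h2 : ({v, w} : Finset (ι → F)).card ≤ 2 := Finset.card_le_two
    omega
  obtain ⟨y1, y2, h1, h2, h3⟩ := exists_hyp_perp_sub hf _ hU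
  have hv : v ∈ Submodule.span F ((({v, w} : Finset (ι → F)) : Set (ι → F))) :=
    Submodule.subset_span (by simp)
  have hw : w ∈ Submodule.span F ((({v, w} : Finset (ι → F)) : Set (ι → F))) :=
    Submodule.subset_span (by simp)
  refine ⟨y1, y2, ?_, ?_, ?_, ?_, h3⟩
  · rw [hf.skew, h1 v hv, neg_zero]
  · rw [hf.skew, h1 w hw, neg_zero]
  · rw [hf.skew, h2 v hv, neg_zero]
  · rw [hf.skew, h2 w hw, neg_zero]

end Gen

end Cfsg.Agent.Lib.Helper94.SympGen
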