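import Mathlib
import Cfsg.Agent.Lib.Helper26.T64Stmt

/-!
# S3157, piece NF (helper94, second seat)

Generators and relations of the Sylow 2-subgroup of `PSL(3,4)` give Heisenberg coordinates
over `F4`.
-/

set_option autoImplicit false

namespace Cfsg.Agent.Lib.Helper94.T64NF

open Cfsg.Agent.Lib.Helper86.Sp4F4

universe u

/-- first coordinate of `F4` in the basis `1, ω` -/
def c1 : F4 → ℕ
  | F4.z => 0
  | F4.o => 1
  | F4.w => 0
  | F4.v => 1

/-- second coordinate of `F4` in the basis `1, ω` -/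
def c2 : F4 → ℕ
  | F4.z => 0
  | F4.o => 0
  | F4.w => 1
  | F4.v => 1

theorem c1_add : ∀ p q : F4, c1 (p + q) % 2 = (c1 p + c1 q) % 2 := by decide

theorem c2_add : ∀ p q : F4, c2 (p + q) % 2 = (c2 p + c2 q) % 2 := by decide

/-- the homomorphism `F4 → T` attached to two commuting involutions -/
def hom2 {T : Type u} [Group T] (s t : T) (p : F4) : T := s ^ c1 p * t ^ c2 p

theorem hom2_add {T : Type u} [Group T] (s t : T) (hs : s * s = 1) (ht : t * t = 1)
    (hst : s * t = t * s) (p q : F4) : hom2 s t (p + q) = hom2 s t p * hom2 s t q := by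
  have hs2 : s ^ 2 = 1 := by rw [pow_two]; exact hs
  have ht2 : t ^ 2 = 1 := by rw [pow_two]; exact ht
  have hc : Commute s t := hst
  unfold hom2
  rw [pow_eq_pow_mod (c1 (p + q)) hs2, c1_add, ← pow_eq_pow_mod _ hs2,
    pow_eq_pow_mod (c2 (p + q)) ht2, c2_add, ← pow_eq_pow_mod _ ht2, pow_add, pow_add]
  have h := (hc.pow_pow (c1 q) (c2 p)).eq
  calc s ^ c1 p * s ^ c1 q * (t ^ c2 p * t ^ c2 q)
      = s ^ c1 p * (s ^ c1 q * t ^ c2 p) * t ^ c2 q := by simp only [mul_assoc]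
    _ = s ^ c1 p * (t ^ c2 p * s ^ c1 q) * t ^ c2 q := by rw [h]
    _ = s ^ c1 p * t ^ c2 p * (s ^ c1 q * t ^ c2 q) := by simp only [mul_assoc]

theorem hom2_z {T : Type u} [Group T] (s t : T) : hom2 s t 0 = 1 := by
  show s ^ c1 F4.z * t ^ c2 F4.z = 1
  simp [c1, c2]

theorem hom2_o {T : Type u} [Group T] (s t : T) : hom2 s t F4.o = s := by
  simp [hom2, c1, c2]

theorem hom2_w {T : Type u} [Group T] (s t : T) : hom2 s t F4.w = t := by
  simp [hom2, c1, c2]

theorem hom2_v {T : Type u} [Group T] (s t : T) : hom2 s t F4.v = s * t := by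
  simp [hom2, c1, c2]

theorem main : Cfsg.Agent.Lib.Helper26.T64Stmt.NF.{u} := by
  intro T _ _ hcard ⟨a₁, a₂, b₁, b₂, z₁, z₂, ha₁, ha₂, hb₁, hb₂, hz₁, hz₂, hz₁c, hz₂c, haa, hbb,
    r11, r21, r12, r22, hgen⟩
  obtain ⟨α, hα⟩ : ∃ α : F4 → T, α = hom2 a₁ a₂ := ⟨_, rfl⟩
  obtain ⟨β, hβ⟩ : ∃ β : F4 → T, β = hom2 b₁ b₂ := ⟨_, rfl⟩
  obtain ⟨γ, hγ⟩ : ∃ γ : F4 → T, γ = hom2 z₁ z₂ := ⟨_, rfl⟩
  have hαadd : ∀ p q : F4, α (p + q) = α p * α q := by
    intro p q; rw [hα]; exact hom2_add a₁ a₂ ha₁ ha₂ haa p q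
  have hβadd : ∀ p q : F4, β (p + q) = β p * β q := by
    intro p q; rw [hβ]; exact hom2_add b₁ b₂ hb₁ hb₂ hbb p q
  have hγadd : ∀ p q : F4, γ (p + q) = γ p * γ q := by
    intro p q; rw [hγ]; exact hom2_add z₁ z₂ hz₁ hz₂ (hz₁c z₂) p q
  have hγc : ∀ (c : F4) (t : T), γ c * t = t * γ c := by
    intro c t
    rw [hγ]
    have h1 : Commute z₁ t := hz₁c t
    have h2 : Commute z₂ t := hz₂c t
    exact ((h1.pow_left _).mul_left (h2.pow_left _)).eq
  have hα0 : α 0 = 1 := by rw [hα]; exact hom2_z _ _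
  have hβ0 : β 0 = 1 := by rw [hβ]; exact hom2_z _ _
  have hγ0 : γ 0 = 1 := by rw [hγ]; exact hom2_z _ _
  have hαo : α F4.o = a₁ := by rw [hα]; exact hom2_o _ _
  have hαw : α F4.w = a₂ := by rw [hα]; exact hom2_w _ _
  have hβo : β F4.o = b₁ := by rw [hβ]; exact hom2_o _ _
  have hβw : β F4.w = b₂ := by rw [hβ]; exact hom2_w _ _
  have hγo : γ F4.o = z₁ := by rw [hγ]; exact hom2_o _ _
  have hγw : γ F4.w = z₂ := by rw [hγ]; exact hom2_w _ _
  have hγv : γ F4.v = z₁ * z₂ := by rw [hγ]; exact hom2_v _ _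
  -- the commutator relation
  have hR0a : ∀ b : F4, β b * α 0 = α 0 * β b * γ (0 * b) := by
    intro b; rw [zero_mul, hα0, hγ0, mul_one, one_mul, mul_one]
  have hR0b : ∀ a : F4, β 0 * α a = α a * β 0 * γ (a * 0) := by
    intro a; rw [mul_zero, hβ0, hγ0, mul_one, one_mul, mul_one]
  have hRadd_a : ∀ a a' b : F4, β b * α a = α a * β b * γ (a * b) →
      β b * α a' = α a' * β b * γ (a' * b) →
      β b * α (a + a') = α (a + a') * β b * γ ((a + a') * b) := by
    intro a a' b h h'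
    rw [hαadd, add_mul, hγadd]
    have e1 : β b * (α a * α a') = α a * (α a' * (β b * (γ (a' * b) * γ (a * b)))) := by
      rw [← mul_assoc, h, mul_assoc (α a * β b) (γ (a * b)) (α a'), hγc (a * b) (α a'),
        mul_assoc (α a) (β b), ← mul_assoc (β b) (α a'), h']
      simp only [mul_assoc]
    rw [e1, hγc (a' * b) (γ (a * b))]
    simp only [mul_assoc]
  have hRadd_b : ∀ a b b' : F4, β b * α a = α a * β b * γ (a * b) →
      β b' * α a = α a * β b' * γ (a * b') →
      β (b + b') * α a = α a * β (b + b') * γ (a * (b + b')) := by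
    intro a b b' h h'
    rw [hβadd, mul_add, hγadd]
    rw [mul_assoc (β b) (β b') (α a), h', ← mul_assoc (β b), ← mul_assoc (β b), h,
      mul_assoc (α a * β b) (γ (a * b)) (β b'), hγc (a * b) (β b')]
    simp only [mul_assoc]
  have hoo : β F4.o * α F4.o = α F4.o * β F4.o * γ (F4.o * F4.o) := by
    have e : F4.o * F4.o = F4.o := rfl
    rw [e, hαo, hβo, hγo]; exact r11
  have how : β F4.w * α F4.o = α F4.o * β F4.w * γ (F4.o * F4.w) := by
    have e : F4.o * F4.w = F4.w := rfl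
    rw [e, hαo, hβw, hγw]; exact r21
  have hwo : β F4.o * α F4.w = α F4.w * β F4.o * γ (F4.w * F4.o) := by
    have e : F4.w * F4.o = F4.w := rfl
    rw [e, hαw, hβo, hγw]; exact r12
  have hww : β F4.w * α F4.w = α F4.w * β F4.w * γ (F4.w * F4.w) := by
    have e : F4.w * F4.w = F4.v := rfl
    rw [e, hαw, hβw, hγv]; exact r22
  have hRb : ∀ a : F4, β F4.o * α a = α a * β F4.o * γ (a * F4.o) →
      β F4.w * α a = α a * β F4.w * γ (a * F4.w) →
      ∀ b : F4, β b * α a = α a * β b * γ (a * b) := by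
    intro a h1 h2 b
    cases b
    · exact hR0b a
    · exact h1
    · exact h2
    · exact hRadd_b a F4.o F4.w h1 h2
  have hR : ∀ a b : F4, β b * α a = α a * β b * γ (a * b) := by
    intro a b
    cases a
    · exact hR0a b
    · exact hRb F4.o hoo how b
    · exact hRb F4.w hwo hww b
    · exact hRadd_a F4.o F4.w b (hRb F4.o hoo how b) (hRb F4.w hwo hww b)
  -- left multiplication on normal forms
  have hLα : ∀ a p q r : F4, α a * (α p * β q * γ r) = α (a + p) * β q * γ r := by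
    intro a p q r; rw [hαadd]; simp only [mul_assoc]
  have hLβ : ∀ b p q r : F4, β b * (α p * β q * γ r) = α p * β (b + q) * γ (p * b + r) := by
    intro b p q r
    rw [hβadd, hγadd, ← mul_assoc, ← mul_assoc, hR p b,
      mul_assoc (α p * β b) (γ (p * b)) (β q), hγc (p * b) (β q)]
    simp only [mul_assoc]
  have hLγ : ∀ c p q r : F4, γ c * (α p * β q * γ r) = α p * β q * γ (c + r) := by
    intro c p q r
    rw [hγadd, hγc c (α p * β q * γ r), mul_assoc (α p * β q) (γ r) (γ c), hγc r (γ c)]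
  have hsq : ∀ g ∈ ({a₁, a₂, b₁, b₂, z₁, z₂} : Set T), g * g = 1 := by
    intro g hg
    simp only [Set.mem_insert_iff, Set.mem_singleton_iff] at hg
    rcases hg with rfl | rfl | rfl | rfl | rfl | rfl
    · exact ha₁
    · exact ha₂
    · exact hb₁
    · exact hb₂
    · exact hz₁
    · exact hz₂
  have hgenact : ∀ g ∈ ({a₁, a₂, b₁, b₂, z₁, z₂} : Set T), ∀ p q r : F4,
      ∃ p' q' r' : F4, g * (α p * β q * γ r) = α p' * β q' * γ r' := by
    intro g hg p q r
    simp only [Set.mem_insert_iff, Set.mem_singleton_iff] at hg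
    rcases hg with h | h | h | h | h | h
    · exact ⟨F4.o + p, q, r, by rw [h, ← hαo]; exact hLα F4.o p q r⟩
    · exact ⟨F4.w + p, q, r, by rw [h, ← hαw]; exact hLα F4.w p q r⟩
    · exact ⟨p, F4.o + q, p * F4.o + r, by rw [h, ← hβo]; exact hLβ F4.o p q r⟩
    · exact ⟨p, F4.w + q, p * F4.w + r, by rw [h, ← hβw]; exact hLβ F4.w p q r⟩
    · exact ⟨p, q, F4.o + r, by rw [h, ← hγo]; exact hLγ F4.o p q r⟩
    · exact ⟨p, q, F4.w + r, by rw [h, ← hγw]; exact hLγ F4.w p q r⟩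
  have hsurj : ∀ t : T, ∃ p q r : F4, t = α p * β q * γ r := by
    intro t
    have ht : t ∈ Subgroup.closure ({a₁, a₂, b₁, b₂, z₁, z₂} : Set T) := by
      rw [hgen]; exact Subgroup.mem_top t
    induction ht using Subgroup.closure_induction_left with
    | one => exact ⟨0, 0, 0, by rw [hα0, hβ0, hγ0, mul_one, mul_one]⟩
    | mul_left x hx y hy ih =>
      obtain ⟨p, q, r, rfl⟩ := ih
      exact hgenact x hx p q r
    | inv_mul_cancel x hx y hy ih =>
      obtain ⟨p, q, r, rfl⟩ := ih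
      have hxinv : x⁻¹ = x := inv_eq_of_mul_eq_one_left (hsq x hx)
      rw [hxinv]
      exact hgenact x hx p q r
  refine ⟨α, β, γ, hαadd, hβadd, hγadd, hγc, hR, ?_⟩
  rw [Nat.bijective_iff_surjective_and_card]
  refine ⟨?_, ?_⟩
  · intro t
    obtain ⟨p, q, r, h⟩ := hsurj t
    exact ⟨(p, q, r), h.symm⟩
  · rw [hcard, Nat.card_prod, Nat.card_prod, Nat.card_eq_fintype_card, F4.card]

end Cfsg.Agent.Lib.Helper94.T64NF
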