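import Mathlib
import Cfsg.Prelude.Def_GeometricClasses
import Cfsg.Agent.Lib.Helper94.Basic
import Cfsg.Agent.Lib.Helper94.GLAux
import Cfsg.Agent.Lib.Helper94.Tv
import Cfsg.Agent.Lib.Helper94.Tv2

set_option autoImplicit false

namespace Cfsg.Agent.Lib.Helper94.UnitAbs

open scoped Matrix
open Cfsg.Agent.Lib.Helper94.Basic Cfsg.Agent.Lib.Helper94.GLAux Cfsg.Agent.Lib.Helper94.Tv
  Cfsg.Agent.Lib.Helper94.Tv2

section Alg

variable {ι : Type} [Fintype ι] [DecidableEq ι] {F : Type*} [Field F]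
variable {σ : F ≃+* F} {f : (ι → F) → (ι → F) → F}

lemma herm' (hf : Cfsg.Geo.IsUnitaryForm σ f) (v w : ι → F) : σ (f v w) = f w v :=
  (hf.herm w v).symm

lemma add_right (hf : Cfsg.Geo.IsUnitaryForm σ f) (v x y : ι → F) :
    f v (x + y) = f v x + f v y := by
  rw [hf.herm v (x + y), hf.add_left, map_add, herm' hf, herm' hf]

lemma smul_right (hf : Cfsg.Geo.IsUnitaryForm σ f) (c : F) (v x : ι → F) :
    f v (c • x) = σ c * f v x := by
  rw [hf.herm v (c • x), hf.smul_left, map_mul, herm' hf]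

lemma zero_left (hf : Cfsg.Geo.IsUnitaryForm σ f) (v : ι → F) : f 0 v = 0 := by
  have h := hf.smul_left 0 0 v
  simpa using h

lemma zero_right (hf : Cfsg.Geo.IsUnitaryForm σ f) (v : ι → F) : f v 0 = 0 := by
  have h := smul_right hf 0 v 0
  simpa using h

lemma neg_left (hf : Cfsg.Geo.IsUnitaryForm σ f) (u v : ι → F) : f (-u) v = - f u v := by
  have h := hf.smul_left (-1) u v
  simpa using h

lemma neg_right (hf : Cfsg.Geo.IsUnitaryForm σ f) (u v : ι → F) : f u (-v) = - f u v := by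
  have h := smul_right hf (-1) u v
  simpa using h

lemma sub_left (hf : Cfsg.Geo.IsUnitaryForm σ f) (u u' v : ι → F) :
    f (u - u') v = f u v - f u' v := by
  rw [sub_eq_add_neg, hf.add_left, neg_left hf, sub_eq_add_neg]

lemma sub_right (hf : Cfsg.Geo.IsUnitaryForm σ f) (u v v' : ι → F) :
    f u (v - v') = f u v - f u v' := by
  rw [sub_eq_add_neg, add_right hf, neg_right hf, sub_eq_add_neg]

lemma self_fixed (hf : Cfsg.Geo.IsUnitaryForm σ f) (v : ι → F) : σ (f v v) = f v v :=
  herm' hf v v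

lemma eq_zero_comm (hf : Cfsg.Geo.IsUnitaryForm σ f) (v w : ι → F) : f v w = 0 ↔ f w v = 0 := by
  constructor
  · intro h; rw [hf.herm, h, map_zero]
  · intro h; rw [hf.herm, h, map_zero]

/-- Some element has nonzero trace. -/
lemma exists_tr_ne (hf : Cfsg.Geo.IsUnitaryForm σ f) : ∃ θ : F, θ + σ θ ≠ 0 := by
  by_contra hcon
  push Not at hcon
  have h1 := hcon 1
  rw [map_one] at h1
  apply hf.ne_refl
  apply RingEquiv.ext
  intro a
  have h2 := hcon a
  have h3 : a + a = 0 := by
    have : a * (1 + 1) = 0 := by rw [h1, mul_zero]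
    linear_combination this
  simp only [RingEquiv.refl_apply]
  linear_combination h2 - h3

/-- The trace is onto the fixed field. -/
lemma tr_surj (hf : Cfsg.Geo.IsUnitaryForm σ f) (a : F) (ha : σ a = a) : ∃ c : F, c + σ c = a := by
  obtain ⟨θ, hθ⟩ := exists_tr_ne hf
  refine ⟨a * θ / (θ + σ θ), ?_⟩
  rw [map_div₀, map_mul, map_add, hf.involutive, ha]
  field_simp
  have h2 : σ θ + θ ≠ 0 := by rwa [add_comm]
  field_simp
  ring

/-- A nonzero element of trace zero. -/
lemma exists_skew_ne (hf : Cfsg.Geo.IsUnitaryForm σ f) : ∃ κ : F, κ ≠ 0 ∧ σ κ = -κ := by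
  have h1 : ∃ x : F, σ x ≠ x := by
    by_contra hcon
    push Not at hcon
    apply hf.ne_refl
    apply RingEquiv.ext
    intro a
    simpa using hcon a
  obtain ⟨x, hx⟩ := h1
  refine ⟨x - σ x, ?_, ?_⟩
  · intro h
    apply hx
    exact (sub_eq_zero.mp h).symm
  · rw [map_sub, hf.involutive]; ring

/-- Trace equations `c * b + σ (c * b) = a` are solvable for `b ≠ 0`. -/
lemma tr_solve (hf : Cfsg.Geo.IsUnitaryForm σ f) (a b : F) (ha : σ a = a) (hb : b ≠ 0) :
    ∃ c : F, c * b + σ c * σ b = a := by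
  obtain ⟨c, hc⟩ := tr_surj hf a ha
  refine ⟨c / b, ?_⟩
  have hb' : σ b ≠ 0 := by
    intro h
    apply hb
    have := congrArg σ h
    rwa [hf.involutive, map_zero] at this
  rw [map_div₀]
  field_simp
  exact hc

/-- The field is two-dimensional over the fixed field, in the form needed for transvection
coefficient groups. -/
lemma two_dim (hf : Cfsg.Geo.IsUnitaryForm σ f) (A : AddSubgroup F) (a θ : F) (ha : a ≠ 0)
    (hθ : θ + σ θ ≠ 0) (h1 : ∀ κ : F, σ κ = -κ → a * κ ∈ A)
    (h2 : ∀ κ₁ κ₂ : F, σ κ₁ = -κ₁ → σ κ₂ = -κ₂ → a * κ₁ * θ * κ₂ ∈ A) (b : F) : b ∈ A := by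
  obtain ⟨κ₀, hκ₀, hκ₀'⟩ := exists_skew_ne hf
  obtain ⟨b', hb'⟩ : ∃ b' : F, b' = b / a := ⟨_, rfl⟩
  obtain ⟨e, he⟩ : ∃ e : F, e = (b' + σ b') / (θ + σ θ) := ⟨_, rfl⟩
  have hθ' : σ θ + θ ≠ 0 := by rwa [add_comm]
  have he' : σ e = e := by
    rw [he, map_div₀, map_add, map_add, hf.involutive, hf.involutive]
    rw [add_comm (σ b') b', add_comm (σ θ) θ]
  have hthis : e * (θ + σ θ) = b' + σ b' := by rw [he]; field_simp
  have hk : σ (b' - e * θ) = -(b' - e * θ) := by
    rw [map_sub, map_mul, he']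
    linear_combination (-1 : F) * hthis
  have hk2 : σ (e / κ₀) = -(e / κ₀) := by
    rw [map_div₀, he', hκ₀']
    field_simp
  have h3 := h1 _ hk
  have h4 := h2 κ₀ (e / κ₀) hκ₀' hk2
  have h5 : b = a * (b' - e * θ) + a * κ₀ * θ * (e / κ₀) := by
    rw [hb']
    field_simp
    ring
  rw [h5]
  exact A.add_mem h3 h4

end Alg

section Riesz

variable {ι : Type} [Fintype ι] [DecidableEq ι] {F : Type*} [Field F]
variable {σ : F ≃+* F} {f : (ι → F) → (ι → F) → F}

/-- The functional `x ↦ f x a`. -/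
def fR (hf : Cfsg.Geo.IsUnitaryForm σ f) (a : ι → F) : Module.Dual F (ι → F) where
  toFun x := f x a
  map_add' x y := hf.add_left x y a
  map_smul' c x := by simp [hf.smul_left]

@[simp] lemma fR_apply (hf : Cfsg.Geo.IsUnitaryForm σ f) (a x : ι → F) : fR hf a x = f x a := rfl

lemma fR_add (hf : Cfsg.Geo.IsUnitaryForm σ f) (a b : ι → F) :
    fR hf (a + b) = fR hf a + fR hf b := by
  apply LinearMap.ext; intro x; simp [add_right hf]

lemma fR_smul (hf : Cfsg.Geo.IsUnitaryForm σ f) (c : F) (a : ι → F) :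
    fR hf (c • a) = σ c • fR hf a := by
  apply LinearMap.ext; intro x; simp [smul_right hf]

/-- The linear map `a ↦ f(·, σ ∘ a)`. -/
def fRL (hf : Cfsg.Geo.IsUnitaryForm σ f) : (ι → F) →ₗ[F] Module.Dual F (ι → F) where
  toFun a := fR hf (fun i => σ (a i))
  map_add' a b := by
    have h : (fun i => σ ((a + b) i)) = (fun i => σ (a i)) + (fun i => σ (b i)) := by
      ext i; simp
    rw [h, fR_add]
  map_smul' c a := by
    have h : (fun i => σ ((c • a) i)) = σ c • (fun i => σ (a i)) := by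
      ext i; simp
    rw [h, fR_smul, hf.involutive]
    rfl

/-- Every functional is `f(·, a)` for some `a`. -/
lemma exists_rep (hf : Cfsg.Geo.IsUnitaryForm σ f) (φ : Module.Dual F (ι → F)) :
    ∃ a, ∀ x, φ x = f x a := by
  have hinj : Function.Injective (fRL hf) := by
    rw [← LinearMap.ker_eq_bot, LinearMap.ker_eq_bot']
    intro a ha
    by_contra h
    have h' : (fun i => σ (a i)) ≠ 0 := by
      intro h0
      apply h
      ext i
      have := congrFun h0 i
      simpa using this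
    obtain ⟨x, hx⟩ := (hf.nondegenerate _ h').1
    apply hx
    have h1 := congrArg (fun ψ : Module.Dual F (ι → F) => ψ x) ha
    simpa [fRL] using h1
  have hsurj := (LinearMap.injective_iff_surjective_of_finrank_eq_finrank
    (Subspace.dual_finrank_eq (K := F) (V := ι → F)).symm).mp hinj
  obtain ⟨a, ha⟩ := hsurj φ
  refine ⟨fun i => σ (a i), fun x => ?_⟩
  rw [← ha]
  rfl

/-- A vector outside a subspace is separated from it by the form. -/
lemma exists_perp_ne (hf : Cfsg.Geo.IsUnitaryForm σ f) (U : Submodule F (ι → F)) (x : ι → F)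
    (hx : x ∉ U) : ∃ r, (∀ u ∈ U, f u r = 0) ∧ f x r ≠ 0 := by
  obtain ⟨ψ, hψ1, hψ0⟩ := exists_dual_one hx
  obtain ⟨r, hr⟩ := exists_rep hf ψ
  refine ⟨r, fun u hu => ?_, ?_⟩
  · rw [← hr]; exact hψ0 u hu
  · rw [← hr, hψ1]; exact one_ne_zero

/-- The right orthogonal of a vector, as a subspace. -/
def perpR (hf : Cfsg.Geo.IsUnitaryForm σ f) (y : ι → F) : Submodule F (ι → F) where
  carrier := {u | f y u = 0}
  add_mem' {a b} ha hb := by
    simp only [Set.mem_ofPred_eq] at ha hb ⊢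
    rw [add_right hf, ha, hb, add_zero]
  zero_mem' := zero_right hf y
  smul_mem' c a ha := by
    simp only [Set.mem_ofPred_eq] at ha ⊢
    rw [smul_right hf, ha, mul_zero]

lemma mem_perpR (hf : Cfsg.Geo.IsUnitaryForm σ f) (y u : ι → F) : u ∈ perpR hf y ↔ f y u = 0 :=
  Iff.rfl

/-- A vector orthogonal to a small subspace and outside it. -/
lemma exists_perp_notMem (hf : Cfsg.Geo.IsUnitaryForm σ f) (U : Submodule F (ι → F))
    (hU : 2 * Module.finrank F U < Fintype.card ι) :
    ∃ y, (∀ u ∈ U, f y u = 0) ∧ y ∉ U := by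
  set b := Module.finBasis F U with hb
  set Ψ : (ι → F) →ₗ[F] (Fin (Module.finrank F U) → F) :=
    LinearMap.pi (fun i => fR hf ((b i : U) : ι → F)) with hΨ
  have h1 : ¬ (LinearMap.ker Ψ ≤ U) := by
    intro hle
    have h2 := Submodule.finrank_mono hle
    have h3 := LinearMap.finrank_range_add_finrank_ker Ψ
    have h4 : Module.finrank F (LinearMap.range Ψ) ≤ Module.finrank F U := by
      have := Submodule.finrank_le (LinearMap.range Ψ)
      simpa using this
    rw [Module.finrank_fintype_fun_eq_card] at h3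
    omega
  obtain ⟨y, hy, hy'⟩ := SetLike.not_le_iff_exists.mp h1
  refine ⟨y, fun u hu => ?_, hy'⟩
  rw [LinearMap.mem_ker] at hy
  have h5 : ∀ i, f y ((b i : U) : ι → F) = 0 := by
    intro i
    have := congrFun hy i
    simpa [hΨ] using this
  have h6 : u = ∑ i, (b.repr ⟨u, hu⟩ i) • ((b i : U) : ι → F) := by
    have h7 := b.sum_repr ⟨u, hu⟩
    have h8 := congrArg (Subtype.val) h7
    simp only [Submodule.coe_sum, Submodule.coe_smul] at h8
    exact h8.symm
  rw [← mem_perpR hf, h6]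
  exact Submodule.sum_mem _ (fun i _ => Submodule.smul_mem _ _ ((mem_perpR hf _ _).mpr (h5 i)))

/-- A pair of non-orthogonal vectors orthogonal to a small subspace. -/
lemma exists_pair_perp (hf : Cfsg.Geo.IsUnitaryForm σ f) (U : Submodule F (ι → F))
    (hU : 2 * Module.finrank F U < Fintype.card ι) :
    ∃ y1 y2, (∀ u ∈ U, f y1 u = 0) ∧ (∀ u ∈ U, f y2 u = 0) ∧ f y1 y2 ≠ 0 := by
  obtain ⟨y1, hy1, hy1'⟩ := exists_perp_notMem hf U hU
  obtain ⟨y2, hy2, hy2'⟩ := exists_perp_ne hf U y1 hy1'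
  exact ⟨y1, y2, hy1, fun u hu => (eq_zero_comm hf _ _).mp (hy2 u hu), hy2'⟩

lemma norm_add_smul (hf : Cfsg.Geo.IsUnitaryForm σ f) (x y : ι → F) (c : F) :
    f (x + c • y) (x + c • y) = f x x + (c * f y x + σ c * σ (f y x)) + c * σ c * f y y := by
  rw [hf.add_left, add_right hf, add_right hf, hf.smul_left, hf.smul_left, smul_right hf,
    smul_right hf, herm' hf y x]
  ring

/-- A non-isotropic vector orthogonal to a small subspace. -/
lemma exists_aniso_perp (hf : Cfsg.Geo.IsUnitaryForm σ f) (U : Submodule F (ι → F))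
    (hU : 2 * Module.finrank F U < Fintype.card ι) :
    ∃ y, (∀ u ∈ U, f y u = 0) ∧ f y y ≠ 0 := by
  obtain ⟨y1, y2, h1, h2, h12⟩ := exists_pair_perp hf U hU
  by_cases hy1 : f y1 y1 = 0
  · by_cases hy2 : f y2 y2 = 0
    · obtain ⟨θ, hθ⟩ := exists_tr_ne hf
      have h21 : f y2 y1 ≠ 0 := fun h => h12 ((eq_zero_comm hf _ _).mp h)
      refine ⟨y1 + (θ / f y2 y1) • y2, fun u hu => ?_, ?_⟩
      · rw [hf.add_left, hf.smul_left, h1 u hu, h2 u hu]; simp
      · rw [norm_add_smul hf, hy1, hy2, ← map_mul, div_mul_cancel₀ _ h21]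
        simpa using hθ
    · exact ⟨y2, h2, hy2⟩
  · exact ⟨y1, h1, hy1⟩

/-- Making a vector isotropic by adding a multiple of a non-orthogonal isotropic vector. -/
lemma adjust_iso (hf : Cfsg.Geo.IsUnitaryForm σ f) (y v : ι → F) (hy : f y y = 0)
    (hyv : f y v ≠ 0) : ∃ d : F, f (v + d • y) (v + d • y) = 0 := by
  have h1 : σ (-(f v v)) = -(f v v) := by rw [map_neg, self_fixed hf]
  obtain ⟨d, hd⟩ := tr_solve hf (-(f v v)) (f y v) h1 hyv
  refine ⟨d, ?_⟩
  rw [norm_add_smul hf, hy, hd]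
  ring

end Riesz

section Fin

variable {ι : Type} [Fintype ι] [DecidableEq ι] {F : Type*} [Field F] [Fintype F]
variable {σ : F ≃+* F} {f : (ι → F) → (ι → F) → F}

/-- A ternary diagonal form over the fixed field is isotropic. -/
lemma iso3 (_hf : Cfsg.Geo.IsUnitaryForm σ f) (b1 b2 b3 : F) (h1 : σ b1 = b1) (h2 : σ b2 = b2)
    (h3 : σ b3 = b3) (hb1 : b1 ≠ 0) (hb2 : b2 ≠ 0) :
    ∃ c1 c2 : F, σ c1 = c1 ∧ σ c2 = c2 ∧ c1 ^ 2 * b1 + c2 ^ 2 * b2 + b3 = 0 := by
  classical
  by_cases h2F : (2 : F) = 0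
  · -- characteristic two: square roots
    have : CharP F 2 := CharTwo.of_one_ne_zero_of_two_eq_zero one_ne_zero h2F
    have hch : ringChar F = 2 := ringChar.eq F 2
    obtain ⟨c, hc⟩ := FiniteField.isSquare_of_char_two hch (b3 / b1)
    have hσc : σ c = c := by
      have h4 : σ c * σ c = c * c := by
        rw [← map_mul, ← hc, map_div₀, h3, h1]
      have h5 : (σ c - c) * (σ c - c) = 0 := by
        linear_combination h4 + (c * c - σ c * c) * h2F
      have h7 := mul_self_eq_zero.mp h5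
      exact sub_eq_zero.mp h7
    refine ⟨c, 0, hσc, map_zero σ, ?_⟩
    have h8 : c ^ 2 * b1 = b3 := by
      rw [pow_two, ← hc]
      field_simp
    have h9 : b3 + b3 = 0 := by
      have : (2 : F) * b3 = 0 := by rw [h2F, zero_mul]
      linear_combination this
    rw [h8]
    simpa using h9
  · -- odd characteristic: counting over the fixed field
    set F0 : Subfield F := RingHom.eqLocusField (σ : F →+* F) (RingHom.id F) with hF0
    have hmem : ∀ x : F, x ∈ F0 ↔ σ x = x := fun x => Iff.rfl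
    haveI : Fintype F0 := Fintype.ofFinite F0
    have hodd : Fintype.card F0 % 2 = 1 := by
      apply FiniteField.odd_card_of_char_ne_two
      intro hch
      apply h2F
      have h4 : ((ringChar F0 : ℕ) : F0) = 0 := ringChar.Nat.cast_ringChar
      rw [hch] at h4
      have h5 := congrArg F0.subtype h4
      rw [map_natCast, map_zero] at h5
      exact_mod_cast h5
    set B1 : F0 := ⟨b1, (hmem b1).mpr h1⟩ with hB1
    set B2 : F0 := ⟨b2, (hmem b2).mpr h2⟩ with hB2
    set B3 : F0 := ⟨b3, (hmem b3).mpr h3⟩ with hB3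
    have hB1' : B1 ≠ 0 := by
      intro h
      apply hb1
      have := congrArg (Subtype.val) h
      simpa [hB1] using this
    have hB2' : B2 ≠ 0 := by
      intro h
      apply hb2
      have := congrArg (Subtype.val) h
      simpa [hB2] using this
    obtain ⟨a, b, hab⟩ := FiniteField.exists_root_sum_quadratic
      (f := Polynomial.C B1 * Polynomial.X ^ 2 + Polynomial.C 0 * Polynomial.X + Polynomial.C B3)
      (g := Polynomial.C B2 * Polynomial.X ^ 2 + Polynomial.C 0 * Polynomial.X + Polynomial.C 0)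
      (Polynomial.degree_quadratic hB1') (Polynomial.degree_quadratic hB2') hodd
    refine ⟨(a : F), (b : F), (hmem _).mp a.2, (hmem _).mp b.2, ?_⟩
    have h6 := congrArg (Subtype.val) hab
    simp only [Polynomial.eval_add, Polynomial.eval_mul, Polynomial.eval_C, Polynomial.eval_pow,
      Polynomial.eval_X, zero_mul, add_zero] at h6
    push_cast at h6
    simp only [hB1, hB2, hB3] at h6
    linear_combination h6

/-- A hyperbolic pair orthogonal to a small subspace. -/
lemma exists_hyp_perp (hf : Cfsg.Geo.IsUnitaryForm σ f) (U : Submodule F (ι → F))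
    (hU : 2 * Module.finrank F U + 4 < Fintype.card ι) :
    ∃ y1 y2, (∀ u ∈ U, f y1 u = 0) ∧ (∀ u ∈ U, f y2 u = 0) ∧ f y1 y1 = 0 ∧ f y2 y2 = 0 ∧
      f y1 y2 = 1 := by
  obtain ⟨a1, ha1, hb1⟩ := exists_aniso_perp hf U (by omega)
  have hfr1 : Module.finrank F ↥(U ⊔ Submodule.span F {a1}) ≤ Module.finrank F U + 1 := by
    have h1 := Submodule.finrank_add_le_finrank_add_finrank U (Submodule.span F {a1})
    have h2 : Module.finrank F (Submodule.span F {a1}) ≤ 1 := by
      have := finrank_span_le_card (R := F) ({a1} : Set (ι → F))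
      simpa using this
    omega
  obtain ⟨a2, ha2, hb2⟩ := exists_aniso_perp hf (U ⊔ Submodule.span F {a1}) (by omega)
  have hfr2 : Module.finrank F ↥(U ⊔ Submodule.span F {a1} ⊔ Submodule.span F {a2}) ≤
      Module.finrank F U + 2 := by
    have h1 := Submodule.finrank_add_le_finrank_add_finrank (U ⊔ Submodule.span F {a1})
      (Submodule.span F {a2})
    have h2 : Module.finrank F (Submodule.span F {a2}) ≤ 1 := by
      have := finrank_span_le_card (R := F) ({a2} : Set (ι → F))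
      simpa using this
    omega
  obtain ⟨a3, ha3, hb3⟩ := exists_aniso_perp hf
    (U ⊔ Submodule.span F {a1} ⊔ Submodule.span F {a2}) (by omega)
  have h21 : f a2 a1 = 0 :=
    ha2 a1 (Submodule.mem_sup_right (Submodule.mem_span_singleton_self a1))
  have h31 : f a3 a1 = 0 :=
    ha3 a1 (Submodule.mem_sup_left (Submodule.mem_sup_right (Submodule.mem_span_singleton_self a1)))
  have h32 : f a3 a2 = 0 :=
    ha3 a2 (Submodule.mem_sup_right (Submodule.mem_span_singleton_self a2))
  have h12 : f a1 a2 = 0 := (eq_zero_comm hf _ _).mp h21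
  have h13 : f a1 a3 = 0 := (eq_zero_comm hf _ _).mp h31
  have h23 : f a2 a3 = 0 := (eq_zero_comm hf _ _).mp h32
  have ha2U : ∀ u ∈ U, f a2 u = 0 := fun u hu => ha2 u (Submodule.mem_sup_left hu)
  have ha3U : ∀ u ∈ U, f a3 u = 0 := fun u hu =>
    ha3 u (Submodule.mem_sup_left (Submodule.mem_sup_left hu))
  obtain ⟨c1, c2, hc1, hc2, hc⟩ := iso3 hf (f a1 a1) (f a2 a2) (f a3 a3) (self_fixed hf _)
    (self_fixed hf _) (self_fixed hf _) hb1 hb2
  obtain ⟨y, hy⟩ : ∃ y, y = c1 • a1 + c2 • a2 + a3 := ⟨_, rfl⟩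
  have hyy : f y y = 0 := by
    rw [hy]
    simp only [hf.add_left, add_right hf, hf.smul_left, smul_right hf, h12, h13, h21, h23, h31,
      h32, hc1, hc2]
    linear_combination hc
  have hya3 : f y a3 = f a3 a3 := by
    rw [hy]
    simp only [hf.add_left, hf.smul_left, h13, h23]
    ring
  have hyU : ∀ u ∈ U, f y u = 0 := by
    intro u hu
    rw [hy]
    simp only [hf.add_left, hf.smul_left, ha1 u hu, ha2U u hu, ha3U u hu]
    ring
  have hya3' : f y a3 ≠ 0 := by rw [hya3]; exact hb3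
  obtain ⟨d, hd⟩ := adjust_iso hf y a3 hyy hya3'
  have hyy2 : f y (a3 + d • y) = f y a3 := by
    rw [add_right hf, smul_right hf, hyy, mul_zero, add_zero]
  refine ⟨(f y a3)⁻¹ • y, a3 + d • y, fun u hu => ?_, fun u hu => ?_, ?_, hd, ?_⟩
  · rw [hf.smul_left, hyU u hu, mul_zero]
  · rw [hf.add_left, hf.smul_left, hyU u hu, ha3U u hu]; simp
  · rw [hf.smul_left, smul_right hf, hyy]; simp
  · rw [hf.smul_left, hyy2, inv_mul_cancel₀ hya3']

/-- Every element of the fixed field is a norm value on the orthogonal of a small subspace. -/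
lemma exists_norm_perp (hf : Cfsg.Geo.IsUnitaryForm σ f) (U : Submodule F (ι → F))
    (hU : 2 * Module.finrank F U + 4 < Fintype.card ι) (a : F) (ha : σ a = a) :
    ∃ x, (∀ u ∈ U, f x u = 0) ∧ f x x = a := by
  obtain ⟨y1, y2, h1, h2, h11, h22, h12⟩ := exists_hyp_perp hf U hU
  obtain ⟨c, hc⟩ := tr_surj hf a ha
  have h21 : f y2 y1 = 1 := by rw [hf.herm, h12, map_one]
  refine ⟨y1 + c • y2, fun u hu => ?_, ?_⟩
  · rw [hf.add_left, hf.smul_left, h1 u hu, h2 u hu]; simp
  · rw [norm_add_smul hf, h11, h22, h21, map_one]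
    linear_combination hc

/-- Every vector orthogonal to a small subspace is a sum of two isotropic such vectors. -/
lemma iso_sum (hf : Cfsg.Geo.IsUnitaryForm σ f) (U : Submodule F (ι → F))
    (hU : 2 * Module.finrank F U + 6 < Fintype.card ι) (x : ι → F) (hx : ∀ u ∈ U, f x u = 0) :
    ∃ y1 y2, (∀ u ∈ U, f y1 u = 0) ∧ (∀ u ∈ U, f y2 u = 0) ∧ f y1 y1 = 0 ∧ f y2 y2 = 0 ∧
      x = y1 + y2 := by
  by_cases hxx : f x x = 0
  · exact ⟨x, 0, hx, fun u _ => zero_left hf u, hxx, zero_left hf 0, (add_zero x).symm⟩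
  · have hfr1 : Module.finrank F ↥(U ⊔ Submodule.span F {x}) ≤ Module.finrank F U + 1 := by
      have h1 := Submodule.finrank_add_le_finrank_add_finrank U (Submodule.span F {x})
      have h2 : Module.finrank F (Submodule.span F {x}) ≤ 1 := by
        have := finrank_span_le_card (R := F) ({x} : Set (ι → F))
        simpa using this
      omega
    have hfix : σ (-(f x x)) = -(f x x) := by rw [map_neg, self_fixed hf]
    obtain ⟨x', hx', hx'x'⟩ := exists_norm_perp hf (U ⊔ Submodule.span F {x}) (by omega)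
      (-(f x x)) hfix
    have hx'x : f x' x = 0 :=
      hx' x (Submodule.mem_sup_right (Submodule.mem_span_singleton_self x))
    have hxx' : f x x' = 0 := (eq_zero_comm hf _ _).mp hx'x
    have hx'U : ∀ u ∈ U, f x' u = 0 := fun u hu => hx' u (Submodule.mem_sup_left hu)
    obtain ⟨w, hw⟩ : ∃ w, w = x + x' := ⟨_, rfl⟩
    have hww : f w w = 0 := by
      rw [hw, hf.add_left, add_right hf, add_right hf, hxx', hx'x, hx'x']
      ring
    have hwx : f w x = f x x := by
      rw [hw, hf.add_left, hx'x, add_zero]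
    have hwx' : f w x ≠ 0 := by rw [hwx]; exact hxx
    have hwU : ∀ u ∈ U, f w u = 0 := by
      intro u hu
      rw [hw, hf.add_left, hx u hu, hx'U u hu, add_zero]
    obtain ⟨d, hd⟩ := adjust_iso hf w x hww hwx'
    refine ⟨x + d • w, (-d) • w, fun u hu => ?_, fun u hu => ?_, hd, ?_, ?_⟩
    · rw [hf.add_left, hf.smul_left, hx u hu, hwU u hu]; simp
    · rw [hf.smul_left, hwU u hu, mul_zero]
    · rw [hf.smul_left, smul_right hf, hww]; simp
    · rw [neg_smul]; abel

end Fin

section Utv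

variable {ι : Type} [Fintype ι] [DecidableEq ι] {F : Type*} [Field F]
variable {σ : F ≃+* F} {f : (ι → F) → (ι → F) → F}

/-- The transvection `x ↦ x + f(x, z) w`, for `f(w, z) = 0`. -/
def utv (hf : Cfsg.Geo.IsUnitaryForm σ f) (w z : ι → F) (h : f w z = 0) :
    Matrix.GeneralLinearGroup ι F :=
  gtv (fR hf z) w h

@[simp] lemma utv_mulVec (hf : Cfsg.Geo.IsUnitaryForm σ f) (w z : ι → F) (h : f w z = 0)
    (x : ι → F) :
    ((utv hf w z h : Matrix.GeneralLinearGroup ι F) : Matrix ι ι F) *ᵥ x = x + f x z • w := by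
  have h1 := gtv_mulVec (fR hf z) w h x
  rw [fR_apply] at h1
  exact h1

lemma utv_mem_SL (hf : Cfsg.Geo.IsUnitaryForm σ f) (w z : ι → F) (h : f w z = 0) :
    utv hf w z h ∈ Cfsg.Geo.specialLinear ι F := gtv_mem_SL _ _ _

lemma utv_mul_z (hf : Cfsg.Geo.IsUnitaryForm σ f) (w z z' : ι → F) (h : f w z = 0)
    (h' : f w z' = 0) :
    utv hf w z h * utv hf w z' h' = utv hf w (z + z') (by rw [add_right hf, h, h', add_zero]) := by
  apply gl_ext
  intro x
  rw [Units.val_mul, ← Matrix.mulVec_mulVec]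
  simp only [utv_mulVec, hf.add_left, hf.smul_left, add_right hf, h, mul_zero, add_zero, add_smul]
  abel

lemma utv_mul_w (hf : Cfsg.Geo.IsUnitaryForm σ f) (w w' z : ι → F) (h : f w z = 0)
    (h' : f w' z = 0) :
    utv hf w z h * utv hf w' z h' = utv hf (w + w') z (by rw [hf.add_left, h, h', add_zero]) := by
  apply gl_ext
  intro x
  rw [Units.val_mul, ← Matrix.mulVec_mulVec]
  simp only [utv_mulVec, hf.add_left, hf.smul_left, h', mul_zero, add_zero, smul_add]
  abel

lemma utv_zero_z (hf : Cfsg.Geo.IsUnitaryForm σ f) (w : ι → F) :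
    utv hf w 0 (zero_right hf w) = 1 := by
  apply gl_ext
  intro x
  simp [zero_right hf]

lemma utv_zero_w (hf : Cfsg.Geo.IsUnitaryForm σ f) (z : ι → F) :
    utv hf 0 z (zero_left hf z) = 1 := by
  apply gl_ext
  intro x
  simp

lemma utv_inv (hf : Cfsg.Geo.IsUnitaryForm σ f) (w z : ι → F) (h : f w z = 0) :
    (utv hf w z h)⁻¹ = utv hf w (-z) (by rw [neg_right hf, h, neg_zero]) := by
  apply inv_eq_of_mul_eq_one_left
  rw [utv_mul_z]
  apply gl_ext
  intro x
  simp [zero_right hf]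

/-- The commutator relation between two transvections. -/
lemma utv_comm (hf : Cfsg.Geo.IsUnitaryForm σ f) (w1 z1 w2 z2 : ι → F) (h1 : f w1 z1 = 0)
    (h2 : f w2 z2 = 0) (h12 : f w1 z2 = 0) :
    utv hf w1 z1 h1 * utv hf w2 z2 h2 =
      utv hf w1 (f z1 w2 • z2) (by rw [smul_right hf, h12, mul_zero]) *
        (utv hf w2 z2 h2 * utv hf w1 z1 h1) := by
  apply gl_ext
  intro x
  simp only [Units.val_mul, ← Matrix.mulVec_mulVec]
  simp only [utv_mulVec, hf.add_left, hf.smul_left, smul_right hf, h2, h12, mul_zero, add_zero,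
    herm' hf z1 w2, add_smul]
  module

lemma utv_smul (hf : Cfsg.Geo.IsUnitaryForm σ f) (c : F) (w z : ι → F) (h : f (c • w) z = 0)
    (h' : f w (σ c • z) = 0) :
    utv hf (c • w) z h = utv hf w (σ c • z) h' := by
  apply gl_ext
  intro x
  simp only [utv_mulVec, smul_right hf, hf.involutive]
  module

/-- Unitary transvections are isometries. -/
lemma utv_isom (hf : Cfsg.Geo.IsUnitaryForm σ f) (w : ι → F) (κ : F) (hw : f w w = 0)
    (hκ : σ κ = -κ) (x y : ι → F) :
    f (((utv hf w (κ • w) (by rw [smul_right hf, hw, mul_zero]) : Matrix.GeneralLinearGroup ι F) :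
        Matrix ι ι F) *ᵥ x)
      (((utv hf w (κ • w) (by rw [smul_right hf, hw, mul_zero]) : Matrix.GeneralLinearGroup ι F) :
        Matrix ι ι F) *ᵥ y) = f x y := by
  simp only [utv_mulVec, hf.add_left, add_right hf, hf.smul_left, smul_right hf, hw, map_mul,
    hκ, herm' hf y w, map_neg]
  ring

lemma utv_mem_similarity (hf : Cfsg.Geo.IsUnitaryForm σ f) (w : ι → F) (κ : F) (hw : f w w = 0)
    (hκ : σ κ = -κ) :
    utv hf w (κ • w) (by rw [smul_right hf, hw, mul_zero]) ∈ Cfsg.Geo.similarityGroup f :=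
  ⟨1, fun u v => by rw [utv_isom hf w κ hw hκ u v]; simp⟩

/-- Every transvection is of the form `utv`. -/
lemma gtv_eq_utv (hf : Cfsg.Geo.IsUnitaryForm σ f) (φ : Module.Dual F (ι → F)) (w : ι → F)
    (h : φ w = 0) : ∃ (z : ι → F) (hz : f w z = 0), gtv φ w h = utv hf w z hz := by
  obtain ⟨z, hz⟩ := exists_rep hf φ
  refine ⟨z, by rw [← hz]; exact h, ?_⟩
  apply gl_ext
  intro x
  simp [hz]

end Utv

end Cfsg.Agent.Lib.Helper94.UnitAbs
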