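import Mathlib
import Cfsg.Prelude.Def_GeometricClasses
import Cfsg.Agent.Lib.Helper94.Basic
import Cfsg.Agent.Lib.Helper94.GLAux
import Cfsg.Agent.Lib.Helper94.Tv
import Cfsg.Agent.Lib.Helper94.Tv2
import Cfsg.Agent.Lib.Helper94.SympAbs
import Cfsg.Agent.Lib.Helper94.SympGen
import Cfsg.Agent.Lib.Helper94.UnitAbs
import Cfsg.Agent.Lib.Helper94.QuadAbs

set_option autoImplicit false

namespace Cfsg.Agent.Lib.Helper94.UnitGen

open scoped Matrix
open Cfsg.Agent.Lib.Helper94.Basic Cfsg.Agent.Lib.Helper94.GLAux Cfsg.Agent.Lib.Helper94.Tv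
  Cfsg.Agent.Lib.Helper94.Tv2 Cfsg.Agent.Lib.Helper94.UnitAbs
open Cfsg.Agent.Lib.Helper94.SympGen (fixSp mem_fixSp)
open Cfsg.Agent.Lib.Helper94.QuadAbs (finrank_span_singleton_le finrank_span_pair_le
  finrank_span_triple_le finrank_span_quad_le finrank_sup_span_singleton_le)

section Elem

variable {ι : Type} [Fintype ι] [DecidableEq ι] {F : Type*} [Field F]
variable {σ : F ≃+* F} {f : (ι → F) → (ι → F) → F}

open Classical in
/-- The unitary transvection `x ↦ x + (κ f(x,a)) a` (`a` isotropic, `κ` skew; the identity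
otherwise). -/
noncomputable def ut (hf : Cfsg.Geo.IsUnitaryForm σ f) (a : ι → F) (κ : F) :
    Matrix.GeneralLinearGroup ι F :=
  if h : f a a = 0 ∧ σ κ = -κ then
    utv hf a (σ κ • a) (by rw [smul_right hf, h.1, mul_zero])
  else 1

lemma ut_mulVec (hf : Cfsg.Geo.IsUnitaryForm σ f) (a : ι → F) (κ : F) (ha : f a a = 0)
    (hκ : σ κ = -κ) (x : ι → F) :
    ((ut hf a κ : Matrix.GeneralLinearGroup ι F) : Matrix ι ι F) *ᵥ x = x + (κ * f x a) • a := by
  unfold ut
  rw [dif_pos ⟨ha, hκ⟩, utv_mulVec, smul_right hf, hf.involutive]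

lemma ut_isom (hf : Cfsg.Geo.IsUnitaryForm σ f) (a : ι → F) (κ : F) (x y : ι → F) :
    f (((ut hf a κ : Matrix.GeneralLinearGroup ι F) : Matrix ι ι F) *ᵥ x)
      (((ut hf a κ : Matrix.GeneralLinearGroup ι F) : Matrix ι ι F) *ᵥ y) = f x y := by
  by_cases h : f a a = 0 ∧ σ κ = -κ
  · rw [ut_mulVec hf a κ h.1 h.2, ut_mulVec hf a κ h.1 h.2]
    simp only [hf.add_left, add_right hf, hf.smul_left, smul_right hf, h.1, mul_zero, add_zero,
      map_mul, h.2]
    rw [herm' hf y a]
    ring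
  · unfold ut
    rw [dif_neg h]
    simp

lemma ut_mem_SL (hf : Cfsg.Geo.IsUnitaryForm σ f) (a : ι → F) (κ : F) :
    ut hf a κ ∈ Cfsg.Geo.specialLinear ι F := by
  unfold ut
  split_ifs with h
  · exact utv_mem_SL hf _ _ _
  · exact Subgroup.one_mem _

lemma ut_fix (hf : Cfsg.Geo.IsUnitaryForm σ f) (a : ι → F) (κ : F) (u : ι → F) (h : f u a = 0) :
    ((ut hf a κ : Matrix.GeneralLinearGroup ι F) : Matrix ι ι F) *ᵥ u = u := by
  by_cases h' : f a a = 0 ∧ σ κ = -κ
  · rw [ut_mulVec hf a κ h'.1 h'.2, h]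
    simp
  · unfold ut
    rw [dif_neg h']
    simp

lemma ut_conj (hf : Cfsg.Geo.IsUnitaryForm σ f) (g : Matrix.GeneralLinearGroup ι F)
    (hg : ∀ x y, f ((g : Matrix ι ι F) *ᵥ x) ((g : Matrix ι ι F) *ᵥ y) = f x y)
    (a : ι → F) (κ : F) :
    g * ut hf a κ * g⁻¹ = ut hf ((g : Matrix ι ι F) *ᵥ a) κ := by
  by_cases h : f a a = 0 ∧ σ κ = -κ
  · have h' : f ((g : Matrix ι ι F) *ᵥ a) ((g : Matrix ι ι F) *ᵥ a) = 0 := by rw [hg, h.1]
    apply gl_ext
    intro x
    rw [ut_mulVec hf _ κ h' h.2]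
    have hx : x = (g : Matrix ι ι F) *ᵥ (((g⁻¹ : Matrix.GeneralLinearGroup ι F) : Matrix ι ι F) *ᵥ x) := by
      rw [gl_mulVec_inv]
    have e1 : f x ((g : Matrix ι ι F) *ᵥ a)
        = f (((g⁻¹ : Matrix.GeneralLinearGroup ι F) : Matrix ι ι F) *ᵥ x) a := by
      conv_lhs => rw [hx]
      rw [hg]
    rw [e1]
    simp only [Units.val_mul, ← Matrix.mulVec_mulVec]
    rw [ut_mulVec hf a κ h.1 h.2, Matrix.mulVec_add, Matrix.mulVec_smul, gl_mulVec_inv]
  · have h' : ¬ (f ((g : Matrix ι ι F) *ᵥ a) ((g : Matrix ι ι F) *ᵥ a) = 0 ∧ σ κ = -κ) := by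
      rw [hg]
      exact h
    unfold ut
    rw [dif_neg h, dif_neg h']
    group

/-- The linear map of a quasi-reflection. -/
noncomputable def qrLin (hf : Cfsg.Geo.IsUnitaryForm σ f) (a : ι → F) (l : F) :
    (ι → F) →ₗ[F] (ι → F) :=
  LinearMap.transvection (((l - 1) * (f a a)⁻¹) • fR hf a) a

lemma qrLin_apply (hf : Cfsg.Geo.IsUnitaryForm σ f) (a : ι → F) (l : F) (x : ι → F) :
    qrLin hf a l x = x + ((l - 1) * (f a a)⁻¹ * f x a) • a := by
  simp only [qrLin, LinearMap.transvection.apply, LinearMap.smul_apply, fR_apply, smul_eq_mul]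

lemma qrLin_comp (hf : Cfsg.Geo.IsUnitaryForm σ f) (a : ι → F) (ha : f a a ≠ 0) (l l' : F) :
    qrLin hf a l ∘ₗ qrLin hf a l' = qrLin hf a (l * l') := by
  apply LinearMap.ext
  intro x
  simp only [LinearMap.comp_apply, qrLin_apply, hf.add_left, hf.smul_left]
  rw [add_assoc, ← add_smul]
  congr 2
  field_simp
  ring

lemma qrLin_one (hf : Cfsg.Geo.IsUnitaryForm σ f) (a : ι → F) :
    qrLin hf a 1 = LinearMap.id := by
  apply LinearMap.ext
  intro x
  simp [qrLin_apply]

open Classical in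
/-- The quasi-reflection `x ↦ x + ((l - 1) f(x,a) / f(a,a)) a` (`a` anisotropic, `l` of norm one;
the identity otherwise). -/
noncomputable def qr (hf : Cfsg.Geo.IsUnitaryForm σ f) (a : ι → F) (l : F) :
    Matrix.GeneralLinearGroup ι F :=
  if h : f a a ≠ 0 ∧ l * σ l = 1 then
    glOfLin (qrLin hf a l) (qrLin hf a l⁻¹)
      (by rw [qrLin_comp hf a h.1, mul_inv_cancel₀ (left_ne_zero_of_mul_eq_one h.2), qrLin_one])
      (by rw [qrLin_comp hf a h.1, inv_mul_cancel₀ (left_ne_zero_of_mul_eq_one h.2), qrLin_one])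
  else 1

lemma qr_mulVec (hf : Cfsg.Geo.IsUnitaryForm σ f) (a : ι → F) (l : F) (ha : f a a ≠ 0)
    (hl : l * σ l = 1) (x : ι → F) :
    ((qr hf a l : Matrix.GeneralLinearGroup ι F) : Matrix ι ι F) *ᵥ x
      = x + ((l - 1) * (f a a)⁻¹ * f x a) • a := by
  unfold qr
  rw [dif_pos ⟨ha, hl⟩, glOfLin_mulVec, qrLin_apply]

lemma qr_isom (hf : Cfsg.Geo.IsUnitaryForm σ f) (a : ι → F) (l : F) (x y : ι → F) :
    f (((qr hf a l : Matrix.GeneralLinearGroup ι F) : Matrix ι ι F) *ᵥ x)
      (((qr hf a l : Matrix.GeneralLinearGroup ι F) : Matrix ι ι F) *ᵥ y) = f x y := by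
  by_cases h : f a a ≠ 0 ∧ l * σ l = 1
  · rw [qr_mulVec hf a l h.1 h.2, qr_mulVec hf a l h.1 h.2]
    have hl0 : l ≠ 0 := left_ne_zero_of_mul_eq_one h.2
    have hσl : σ l = l⁻¹ := eq_inv_of_mul_eq_one_right h.2
    simp only [hf.add_left, add_right hf, hf.smul_left, smul_right hf, map_mul, map_sub, map_one,
      map_inv₀, self_fixed hf, hσl]
    rw [herm' hf y a]
    have := h.1
    field_simp
    ring
  · unfold qr
    rw [dif_neg h]
    simp

lemma qr_det (hf : Cfsg.Geo.IsUnitaryForm σ f) (a : ι → F) (l : F) (ha : f a a ≠ 0)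
    (hl : l * σ l = 1) :
    ((qr hf a l : Matrix.GeneralLinearGroup ι F) : Matrix ι ι F).det = l := by
  unfold qr
  rw [dif_pos ⟨ha, hl⟩]
  simp only [glOfLin]
  rw [LinearMap.det_toMatrix', qrLin, LinearMap.transvection.det]
  simp only [LinearMap.smul_apply, fR_apply, smul_eq_mul]
  field_simp
  ring

lemma qr_fix (hf : Cfsg.Geo.IsUnitaryForm σ f) (a : ι → F) (l : F) (u : ι → F) (h : f u a = 0) :
    ((qr hf a l : Matrix.GeneralLinearGroup ι F) : Matrix ι ι F) *ᵥ u = u := by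
  by_cases h' : f a a ≠ 0 ∧ l * σ l = 1
  · rw [qr_mulVec hf a l h'.1 h'.2, h]
    simp
  · unfold qr
    rw [dif_neg h']
    simp

lemma qr_conj (hf : Cfsg.Geo.IsUnitaryForm σ f) (g : Matrix.GeneralLinearGroup ι F)
    (hg : ∀ x y, f ((g : Matrix ι ι F) *ᵥ x) ((g : Matrix ι ι F) *ᵥ y) = f x y)
    (a : ι → F) (l : F) :
    g * qr hf a l * g⁻¹ = qr hf ((g : Matrix ι ι F) *ᵥ a) l := by
  by_cases h : f a a ≠ 0 ∧ l * σ l = 1
  · have h' : f ((g : Matrix ι ι F) *ᵥ a) ((g : Matrix ι ι F) *ᵥ a) ≠ 0 := by rw [hg]; exact h.1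
    apply gl_ext
    intro x
    rw [qr_mulVec hf _ l h' h.2]
    have hx : x = (g : Matrix ι ι F) *ᵥ (((g⁻¹ : Matrix.GeneralLinearGroup ι F) : Matrix ι ι F) *ᵥ x) := by
      rw [gl_mulVec_inv]
    have e1 : f x ((g : Matrix ι ι F) *ᵥ a)
        = f (((g⁻¹ : Matrix.GeneralLinearGroup ι F) : Matrix ι ι F) *ᵥ x) a := by
      conv_lhs => rw [hx]
      rw [hg]
    rw [e1, hg]
    simp only [Units.val_mul, ← Matrix.mulVec_mulVec]
    rw [qr_mulVec hf a l h.1 h.2, Matrix.mulVec_add, Matrix.mulVec_smul, gl_mulVec_inv]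
  · have h' : ¬ (f ((g : Matrix ι ι F) *ᵥ a) ((g : Matrix ι ι F) *ᵥ a) ≠ 0 ∧ l * σ l = 1) := by
      rw [hg]
      exact h
    unfold qr
    rw [dif_neg h, dif_neg h']
    group

lemma qr_one (hf : Cfsg.Geo.IsUnitaryForm σ f) (a : ι → F) : qr hf a 1 = 1 := by
  by_cases h : f a a ≠ 0 ∧ (1 : F) * σ 1 = 1
  · apply gl_ext
    intro x
    rw [qr_mulVec hf a 1 h.1 h.2]
    simp
  · unfold qr
    rw [dif_neg h]

lemma qr_mul (hf : Cfsg.Geo.IsUnitaryForm σ f) (a : ι → F) (l l' : F) (hl : l * σ l = 1)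
    (hl' : l' * σ l' = 1) : qr hf a l * qr hf a l' = qr hf a (l * l') := by
  have hll : (l * l') * σ (l * l') = 1 := by
    rw [map_mul]
    linear_combination (l' * σ l') * hl + hl'
  by_cases ha : f a a = 0
  · have h1 : ∀ m : F, qr hf a m = 1 := by
      intro m
      unfold qr
      rw [dif_neg (fun h => h.1 ha)]
    rw [h1, h1, h1, mul_one]
  · apply gl_ext
    intro x
    rw [Units.val_mul, ← Matrix.mulVec_mulVec, qr_mulVec hf a l' ha hl', qr_mulVec hf a l ha hl,
      qr_mulVec hf a _ ha hll]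
    simp only [hf.add_left, hf.smul_left]
    rw [add_assoc, ← add_smul]
    congr 2
    field_simp
    ring

lemma qr_inv (hf : Cfsg.Geo.IsUnitaryForm σ f) (a : ι → F) (l : F) (hl : l * σ l = 1) :
    (qr hf a l)⁻¹ = qr hf a l⁻¹ := by
  have hl0 : l ≠ 0 := left_ne_zero_of_mul_eq_one hl
  have hl' : l⁻¹ * σ l⁻¹ = 1 := by rw [map_inv₀, ← mul_inv, hl, inv_one]
  apply inv_eq_of_mul_eq_one_right
  rw [qr_mul hf a l l⁻¹ hl hl', mul_inv_cancel₀ hl0, qr_one]

lemma qr_smul (hf : Cfsg.Geo.IsUnitaryForm σ f) (c : F) (hc : c ≠ 0) (a : ι → F) (l : F) :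
    qr hf (c • a) l = qr hf a l := by
  have hσc : σ c ≠ 0 := by
    intro h
    apply hc
    have := congrArg σ h
    rwa [hf.involutive, map_zero] at this
  have hnorm : f (c • a) (c • a) = c * σ c * f a a := by
    rw [hf.smul_left, smul_right hf]; ring
  by_cases h : f a a ≠ 0 ∧ l * σ l = 1
  · have h' : f (c • a) (c • a) ≠ 0 := by
      rw [hnorm]
      exact mul_ne_zero (mul_ne_zero hc hσc) h.1
    apply gl_ext
    intro x
    rw [qr_mulVec hf _ l h' h.2, qr_mulVec hf a l h.1 h.2, hnorm, smul_right hf, smul_smul]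
    congr 2
    have := h.1
    field_simp
  · have h' : ¬ (f (c • a) (c • a) ≠ 0 ∧ l * σ l = 1) := by
      rw [hnorm]
      intro h''
      exact h ⟨fun h0 => h''.1 (by rw [h0, mul_zero]), h''.2⟩
    unfold qr
    rw [dif_neg h, dif_neg h']

end Elem

section Dieu

variable {ι : Type} [Fintype ι] [DecidableEq ι] {F : Type*} [Field F]
variable {σ : F ≃+* F} {f : (ι → F) → (ι → F) → F}

lemma exists_not_fixed (hf : Cfsg.Geo.IsUnitaryForm σ f) : ∃ c : F, σ c ≠ c := by
  by_contra hcon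
  push Not at hcon
  apply hf.ne_refl
  ext x
  exact hcon x

/-- A non-identity isometry moves some vector non-orthogonally. -/
lemma exists_moved (hf : Cfsg.Geo.IsUnitaryForm σ f) (g : Matrix.GeneralLinearGroup ι F)
    (hne : ∃ y, (g : Matrix ι ι F) *ᵥ y ≠ y) :
    ∃ x, f x ((g : Matrix ι ι F) *ᵥ x - x) ≠ 0 := by
  by_contra hcon
  push Not at hcon
  obtain ⟨y, hy⟩ := hne
  obtain ⟨c, hc⟩ := exists_not_fixed hf
  have hB : ∀ x z, f x ((g : Matrix ι ι F) *ᵥ z - z) + f z ((g : Matrix ι ι F) *ᵥ x - x) = 0 := by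
    intro x z
    have h := hcon (x + z)
    have e : (g : Matrix ι ι F) *ᵥ (x + z) - (x + z)
        = ((g : Matrix ι ι F) *ᵥ x - x) + ((g : Matrix ι ι F) *ᵥ z - z) := by
      rw [Matrix.mulVec_add]; abel
    rw [e, hf.add_left, add_right hf, add_right hf, hcon x, hcon z] at h
    linear_combination h
  have hzero : ∀ x z, f x ((g : Matrix ι ι F) *ᵥ z - z) = 0 := by
    intro x z
    have h1 := hB x z
    have h2 := hB (c • x) z
    have e : (g : Matrix ι ι F) *ᵥ (c • x) - c • x = c • ((g : Matrix ι ι F) *ᵥ x - x) := by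
      rw [Matrix.mulVec_smul, smul_sub]
    rw [e, hf.smul_left, smul_right hf] at h2
    have h3 : (c - σ c) * f x ((g : Matrix ι ι F) *ᵥ z - z) = 0 := by
      linear_combination h2 - σ c * h1
    rcases mul_eq_zero.mp h3 with h | h
    · exact absurd (sub_eq_zero.mp h).symm hc
    · exact h
  apply hy
  by_contra hne'
  have hd : (g : Matrix ι ι F) *ᵥ y - y ≠ 0 := sub_ne_zero.mpr hne'
  obtain ⟨x, hx⟩ := (hf.nondegenerate _ hd).1
  exact hx (hzero x y)

/-- Dieudonne: every isometry lies in any subgroup containing all unitary transvections and all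
quasi-reflections. -/
theorem isom_mem_of_ut_qr (hf : Cfsg.Geo.IsUnitaryForm σ f)
    (M : Subgroup (Matrix.GeneralLinearGroup ι F)) (hut : ∀ a κ, ut hf a κ ∈ M)
    (hqr : ∀ a l, qr hf a l ∈ M) :
    ∀ (n : ℕ) (g : Matrix.GeneralLinearGroup ι F),
      (∀ x y, f ((g : Matrix ι ι F) *ᵥ x) ((g : Matrix ι ι F) *ᵥ y) = f x y) →
      Fintype.card ι ≤ Module.finrank F (fixSp g) + n → g ∈ M := by
  intro n
  induction n with
  | zero =>
    intro g _ hcard
    have htop : fixSp g = ⊤ := by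
      apply Submodule.eq_top_of_finrank_eq
      have h1 := Submodule.finrank_le (fixSp g)
      rw [Module.finrank_fintype_fun_eq_card] at h1 ⊢
      omega
    have h1 : g = 1 := by
      apply gl_ext
      intro x
      have hx : x ∈ fixSp g := by rw [htop]; trivial
      rw [(mem_fixSp g x).mp hx]
      simp
    rw [h1]
    exact M.one_mem
  | succ n ih =>
    intro g hg hcard
    by_cases hall : ∀ y, (g : Matrix ι ι F) *ᵥ y = y
    · have h1 : g = 1 := by
        apply gl_ext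
        intro x
        rw [hall x]
        simp
      rw [h1]
      exact M.one_mem
    · push Not at hall
      obtain ⟨x, hx⟩ := exists_moved hf g hall
      have hxfix : x ∉ fixSp g := by
        intro h
        rw [mem_fixSp] at h
        rw [h, sub_self, zero_right hf] at hx
        exact hx rfl
      have hyy : f ((g : Matrix ι ι F) *ᵥ x) ((g : Matrix ι ι F) *ᵥ x) = f x x := hg x x
      have hfix : ∀ u ∈ fixSp g, f u (x - (g : Matrix ι ι F) *ᵥ x) = 0 := by
        intro u hu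
        have h1 := hg u x
        rw [(mem_fixSp g u).mp hu] at h1
        rw [sub_right hf, h1, sub_self]
      -- abbreviations
      obtain ⟨y, hy⟩ : ∃ y, y = (g : Matrix ι ι F) *ᵥ x := ⟨_, rfl⟩
      rw [← hy] at hx hyy hfix
      obtain ⟨d, hd⟩ : ∃ d, d = x - y := ⟨_, rfl⟩
      rw [← hd] at hfix
      have hyd : f y d ≠ 0 := by
        intro h0
        apply hx
        have h1 : f y d = f y x - f y y := by rw [hd, sub_right hf]
        rw [h1, hyy] at h0
        have h2 : f x (y - x) = σ (f y x - f x x) := by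
          rw [sub_right hf, map_sub, herm' hf, self_fixed hf]
        rw [h2, h0, map_zero]
      have hsum : f y d + σ (f y d) = - f d d := by
        have h1 : f y d = f y x - f y y := by rw [hd, sub_right hf]
        have h2 : f d d = f x x - f x y - f y x + f y y := by
          rw [hd, sub_left hf, sub_right hf, sub_right hf]; ring
        rw [h2, h1, map_sub, herm' hf, self_fixed hf, hyy]
        ring
      have hyx : y + d = x := by rw [hd]; abel
      have key : ∃ h : Matrix.GeneralLinearGroup ι F, h ∈ M ∧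
          (∀ a b, f ((h : Matrix ι ι F) *ᵥ a) ((h : Matrix ι ι F) *ᵥ b) = f a b) ∧
          (∀ u ∈ fixSp g, (h : Matrix ι ι F) *ᵥ u = u) ∧
          (h : Matrix ι ι F) *ᵥ y = x := by
        by_cases hdd : f d d = 0
        · have hκ : σ (f y d)⁻¹ = -(f y d)⁻¹ := by
            rw [map_inv₀]
            have h3 : σ (f y d) = - f y d := by
              rw [hdd, neg_zero] at hsum
              linear_combination hsum
            rw [h3, inv_neg]
          refine ⟨ut hf d (f y d)⁻¹, hut _ _, ut_isom hf _ _, ?_, ?_⟩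
          · intro u hu
            exact ut_fix hf _ _ u (hfix u hu)
          · rw [ut_mulVec hf d _ hdd hκ, inv_mul_cancel₀ hyd, one_smul, hyx]
        · have hσ0 : σ (f y d) ≠ 0 := by
            intro h
            apply hyd
            have := congrArg σ h
            rwa [hf.involutive, map_zero] at this
          have hl : (-(σ (f y d)) / f y d) * σ (-(σ (f y d)) / f y d) = 1 := by
            rw [map_div₀, map_neg, hf.involutive]
            field_simp
          refine ⟨qr hf d (-(σ (f y d)) / f y d), hqr _ _, qr_isom hf _ _, ?_, ?_⟩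
          · intro u hu
            exact qr_fix hf _ _ u (hfix u hu)
          · rw [qr_mulVec hf d _ hdd hl]
            have e : (-(σ (f y d)) / f y d - 1) * (f d d)⁻¹ * f y d = 1 := by
              have h3 : σ (f y d) = - f d d - f y d := by linear_combination hsum
              rw [h3]
              field_simp
              ring
            rw [e, one_smul, hyx]
      obtain ⟨h, hhM, hhiso, hhfix, hhx⟩ := key
      have hk : h * g ∈ M := by
        apply ih
        · intro a b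
          rw [Units.val_mul, ← Matrix.mulVec_mulVec, ← Matrix.mulVec_mulVec, hhiso, hg]
        · have hlt : fixSp g < fixSp (h * g) := by
            rw [SetLike.lt_iff_le_and_exists]
            refine ⟨?_, x, ?_, hxfix⟩
            · intro u hu
              rw [mem_fixSp, Units.val_mul, ← Matrix.mulVec_mulVec, (mem_fixSp g u).mp hu]
              exact hhfix u hu
            · rw [mem_fixSp, Units.val_mul, ← Matrix.mulVec_mulVec, ← hy]
              exact hhx
          have h1 := Submodule.finrank_lt_finrank_of_lt hlt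
          omega
      have h2 : g = h⁻¹ * (h * g) := by group
      rw [h2]
      exact M.mul_mem (M.inv_mem hhM) hk

end Dieu

section Gen

variable {ι : Type} [Fintype ι] [DecidableEq ι] {F : Type*} [Field F]
variable {σ : F ≃+* F} {f : (ι → F) → (ι → F) → F}

lemma isom_inv (g : Matrix.GeneralLinearGroup ι F)
    (hg : ∀ x y, f ((g : Matrix ι ι F) *ᵥ x) ((g : Matrix ι ι F) *ᵥ y) = f x y) (x y : ι → F) :
    f (((g⁻¹ : Matrix.GeneralLinearGroup ι F) : Matrix ι ι F) *ᵥ x)
      (((g⁻¹ : Matrix.GeneralLinearGroup ι F) : Matrix ι ι F) *ᵥ y) = f x y := by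
  rw [← hg, gl_mulVec_inv, gl_mulVec_inv]

/-- Moving a vector by one unitary transvection. -/
lemma ut_map (hf : Cfsg.Geo.IsUnitaryForm σ f) (a c : ι → F) (hnorm : f a a = f c c)
    (hd : f (c - a) (c - a) = 0) (hne : f a (c - a) ≠ 0) :
    ((ut hf (c - a) (f a (c - a))⁻¹ : Matrix.GeneralLinearGroup ι F) : Matrix ι ι F) *ᵥ a = c := by
  have hsum : f a (c - a) + σ (f a (c - a)) = 0 := by
    have h1 : f (c - a) (c - a) = f c c - f c a - f a c + f a a := by
      rw [sub_left hf, sub_right hf, sub_right hf]; ring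
    have h2 : f a (c - a) = f a c - f a a := sub_right hf _ _ _
    rw [h2, map_sub, herm' hf, self_fixed hf]
    rw [h1] at hd
    linear_combination -hd - hnorm
  have hκ : σ (f a (c - a))⁻¹ = -(f a (c - a))⁻¹ := by
    rw [map_inv₀]
    have h3 : σ (f a (c - a)) = -f a (c - a) := by linear_combination hsum
    rw [h3, inv_neg]
  rw [ut_mulVec hf _ _ hd hκ, inv_mul_cancel₀ hne, one_smul]
  abel

variable [Fintype F]

/-- The norm is surjective onto the fixed field. -/
lemma norm_surj (hf : Cfsg.Geo.IsUnitaryForm σ f) (b : F) (hb : σ b = b) :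
    ∃ c : F, c * σ c = b := by
  obtain ⟨κ, hκ0, hκ⟩ := exists_skew_ne hf
  have hκ2 : σ (κ ^ 2) = κ ^ 2 := by rw [map_pow, hκ]; ring
  obtain ⟨c1, c2, h1, h2, h3⟩ := iso3 hf 1 (-(κ ^ 2)) (-b) (map_one σ)
    (by rw [map_neg, hκ2]) (by rw [map_neg, hb]) one_ne_zero
    (neg_ne_zero.mpr (pow_ne_zero 2 hκ0))
  refine ⟨c1 + c2 * κ, ?_⟩
  rw [map_add, map_mul, h1, h2, hκ]
  linear_combination h3

/-- Transvections move an anisotropic vector to an orthogonal one of the same norm. -/
lemma ut_trans_perp (hf : Cfsg.Geo.IsUnitaryForm σ f) (hcard : 9 ≤ Fintype.card ι)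
    (a b : ι → F) (hab : f a b = 0) (hnorm : f a a = f b b) (ha : f a a ≠ 0) :
    ∃ t : Matrix.GeneralLinearGroup ι F,
      (∀ M : Subgroup (Matrix.GeneralLinearGroup ι F), (∀ a κ, ut hf a κ ∈ M) → t ∈ M) ∧
      (∀ x y, f ((t : Matrix ι ι F) *ᵥ x) ((t : Matrix ι ι F) *ᵥ y) = f x y) ∧
      (t : Matrix ι ι F) *ᵥ a = b := by
  obtain ⟨κ, hκ0, hκ⟩ := exists_skew_ne hf
  have hασ : σ (f a a) = f a a := self_fixed hf a
  have hba : f b a = 0 := (eq_zero_comm hf _ _).mp hab
  have hfr := finrank_span_pair_le (F := F) a b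
  obtain ⟨z, hz, hzz⟩ := exists_norm_perp hf (Submodule.span F ({a, b} : Set (ι → F)))
    (by omega) (f a a * (2 * κ ^ 2 - 1))
    (by rw [map_mul, hασ, map_sub, map_mul, map_pow, hκ, map_ofNat, map_one]; ring)
  have hza : f z a = 0 := hz a (Submodule.subset_span (by simp))
  have hzb : f z b = 0 := hz b (Submodule.subset_span (by simp))
  have haz : f a z = 0 := (eq_zero_comm hf _ _).mp hza
  have hbz : f b z = 0 := (eq_zero_comm hf _ _).mp hzb
  obtain ⟨c, hc⟩ : ∃ c, c = (1 + κ) • a + (1 + κ) • b + z := ⟨_, rfl⟩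
  have hσ1κ : σ (1 + κ) = 1 - κ := by rw [map_add, map_one, hκ]; ring
  have hcc : f c c = f a a := by
    rw [hc]
    simp only [hf.add_left, add_right hf, hf.smul_left, smul_right hf, hab, hba, hza, hzb, haz,
      hbz, hzz, hσ1κ, mul_zero, add_zero, zero_add, ← hnorm]
    ring
  have hac : f a c = (1 - κ) * f a a := by
    rw [hc]
    simp only [add_right hf, smul_right hf, hab, haz, hσ1κ, mul_zero, add_zero]
  have hbc : f b c = (1 - κ) * f a a := by
    rw [hc]
    simp only [add_right hf, smul_right hf, hba, hbz, hσ1κ, mul_zero, add_zero, zero_add, ← hnorm]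
  have hca : f c a = (1 + κ) * f a a := by
    rw [hc]
    simp only [hf.add_left, hf.smul_left, hba, hza, mul_zero, add_zero]
  have hcb : f c b = (1 + κ) * f a a := by
    rw [hc]
    simp only [hf.add_left, hf.smul_left, hab, hzb, mul_zero, add_zero, zero_add, ← hnorm]
  have hd1 : f (c - a) (c - a) = 0 := by
    rw [sub_left hf, sub_right hf, sub_right hf, hcc, hca, hac]; ring
  have hd2 : f (c - b) (c - b) = 0 := by
    rw [sub_left hf, sub_right hf, sub_right hf, hcc, hcb, hbc, ← hnorm]; ring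
  have hne1 : f a (c - a) ≠ 0 := by
    rw [sub_right hf, hac]
    have e : (1 - κ) * f a a - f a a = -κ * f a a := by ring
    rw [e]
    exact mul_ne_zero (neg_ne_zero.mpr hκ0) ha
  have hne2 : f b (c - b) ≠ 0 := by
    rw [sub_right hf, hbc, ← hnorm]
    have e : (1 - κ) * f a a - f a a = -κ * f a a := by ring
    rw [e]
    exact mul_ne_zero (neg_ne_zero.mpr hκ0) ha
  have m1 := ut_map hf a c hcc.symm hd1 hne1
  have m2 := ut_map hf b c (by rw [hcc, hnorm]) hd2 hne2
  refine ⟨(ut hf (c - b) (f b (c - b))⁻¹)⁻¹ * ut hf (c - a) (f a (c - a))⁻¹, ?_, ?_, ?_⟩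
  · intro M hM
    exact M.mul_mem (M.inv_mem (hM _ _)) (hM _ _)
  · intro x y
    rw [Units.val_mul, ← Matrix.mulVec_mulVec, ← Matrix.mulVec_mulVec,
      isom_inv _ (ut_isom hf _ _), ut_isom hf]
  · rw [Units.val_mul, ← Matrix.mulVec_mulVec, m1]
    have h3 := gl_inv_mulVec (ut hf (c - b) (f b (c - b))⁻¹) b
    rw [m2] at h3
    exact h3

/-- Transvections are transitive on vectors of a given non-zero norm. -/
lemma ut_trans (hf : Cfsg.Geo.IsUnitaryForm σ f) (hcard : 9 ≤ Fintype.card ι)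
    (a b : ι → F) (hnorm : f a a = f b b) (ha : f a a ≠ 0) :
    ∃ t : Matrix.GeneralLinearGroup ι F,
      (∀ M : Subgroup (Matrix.GeneralLinearGroup ι F), (∀ a κ, ut hf a κ ∈ M) → t ∈ M) ∧
      (∀ x y, f ((t : Matrix ι ι F) *ᵥ x) ((t : Matrix ι ι F) *ᵥ y) = f x y) ∧
      (t : Matrix ι ι F) *ᵥ a = b := by
  have hfr := finrank_span_pair_le (F := F) a b
  obtain ⟨e, he, hee⟩ := exists_norm_perp hf (Submodule.span F ({a, b} : Set (ι → F)))
    (by omega) (f a a) (self_fixed hf a)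
  have hea : f e a = 0 := he a (Submodule.subset_span (by simp))
  have heb : f e b = 0 := he b (Submodule.subset_span (by simp))
  have hae : f a e = 0 := (eq_zero_comm hf _ _).mp hea
  obtain ⟨t1, t1M, t1iso, t1a⟩ := ut_trans_perp hf hcard a e hae hee.symm ha
  obtain ⟨t2, t2M, t2iso, t2e⟩ := ut_trans_perp hf hcard e b heb (by rw [hee, hnorm])
    (by rw [hee]; exact ha)
  refine ⟨t2 * t1, fun M hM => M.mul_mem (t2M M hM) (t1M M hM), ?_, ?_⟩
  · intro x y
    rw [Units.val_mul, ← Matrix.mulVec_mulVec, ← Matrix.mulVec_mulVec, t2iso, t1iso]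
  · rw [Units.val_mul, ← Matrix.mulVec_mulVec, t1a, t2e]

/-- Every isometry of determinant one lies in any subgroup containing all unitary
transvections. -/
theorem isom_mem_of_ut (hf : Cfsg.Geo.IsUnitaryForm σ f) (hcard : 9 ≤ Fintype.card ι)
    (M : Subgroup (Matrix.GeneralLinearGroup ι F)) (hM : ∀ a κ, ut hf a κ ∈ M)
    (g : Matrix.GeneralLinearGroup ι F)
    (hg : ∀ x y, f ((g : Matrix ι ι F) *ᵥ x) ((g : Matrix ι ι F) *ᵥ y) = f x y)
    (hdet : (g : Matrix ι ι F).det = 1) : g ∈ M := by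
  classical
  obtain ⟨T, hT⟩ : ∃ T : Subgroup (Matrix.GeneralLinearGroup ι F),
      T = Subgroup.closure {t | ∃ a κ, t = ut hf a κ} := ⟨_, rfl⟩
  have hTM : T ≤ M := by
    rw [hT, Subgroup.closure_le]
    rintro _ ⟨a, κ, rfl⟩
    exact hM a κ
  have hutT : ∀ a κ, ut hf a κ ∈ T := fun a κ => by
    rw [hT]
    exact Subgroup.subset_closure ⟨a, κ, rfl⟩
  have hTnorm : ∀ h : Matrix.GeneralLinearGroup ι F,
      (∀ x y, f ((h : Matrix ι ι F) *ᵥ x) ((h : Matrix ι ι F) *ᵥ y) = f x y) →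
      ∀ t ∈ T, h * t * h⁻¹ ∈ T := by
    intro h hh t ht
    rw [hT] at ht
    induction ht using Subgroup.closure_induction with
    | mem t ht =>
      obtain ⟨a, κ, rfl⟩ := ht
      rw [ut_conj hf h hh]
      exact hutT _ _
    | one =>
      have : h * 1 * h⁻¹ = 1 := by group
      rw [this]
      exact T.one_mem
    | mul s t _ _ hs ht =>
      have : h * (s * t) * h⁻¹ = (h * s * h⁻¹) * (h * t * h⁻¹) := by group
      rw [this]
      exact T.mul_mem hs ht
    | inv t _ ht =>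
      have : h * t⁻¹ * h⁻¹ = (h * t * h⁻¹)⁻¹ := by group
      rw [this]
      exact T.inv_mem ht
  have hbot : Module.finrank F (⊥ : Submodule F (ι → F)) = 0 := finrank_bot F (ι → F)
  obtain ⟨a0, -, ha0⟩ := exists_aniso_perp hf (⊥ : Submodule F (ι → F)) (by omega)
  let N : Subgroup (Matrix.GeneralLinearGroup ι F) :=
    { carrier := {g | (∀ x y, f ((g : Matrix ι ι F) *ᵥ x) ((g : Matrix ι ι F) *ᵥ y) = f x y) ∧
        ∃ l : F, l * σ l = 1 ∧ (g : Matrix ι ι F).det = l ∧ g * (qr hf a0 l)⁻¹ ∈ T}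
      mul_mem' := by
        rintro g1 g2 ⟨h1, l1, hl1, hd1, ht1⟩ ⟨h2, l2, hl2, hd2, ht2⟩
        refine ⟨?_, l1 * l2, ?_, ?_, ?_⟩
        · intro x y
          rw [Units.val_mul, ← Matrix.mulVec_mulVec, ← Matrix.mulVec_mulVec, h1, h2]
        · rw [map_mul]
          linear_combination (l2 * σ l2) * hl1 + hl2
        · rw [Units.val_mul, Matrix.det_mul, hd1, hd2]
        · rw [← qr_mul hf a0 l1 l2 hl1 hl2]
          have e : g1 * g2 * (qr hf a0 l1 * qr hf a0 l2)⁻¹
              = (g1 * (qr hf a0 l1)⁻¹) *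
                (qr hf a0 l1 * (g2 * (qr hf a0 l2)⁻¹) * (qr hf a0 l1)⁻¹) := by group
          rw [e]
          exact T.mul_mem ht1 (hTnorm _ (qr_isom hf a0 l1) _ ht2)
      one_mem' := by
        refine ⟨fun x y => by simp, 1, by simp, by simp, ?_⟩
        rw [qr_one, inv_one, mul_one]
        exact T.one_mem
      inv_mem' := by
        rintro g1 ⟨h1, l1, hl1, hd1, ht1⟩
        have hl0 : l1 ≠ 0 := left_ne_zero_of_mul_eq_one hl1
        refine ⟨isom_inv g1 h1, l1⁻¹, ?_, ?_, ?_⟩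
        · rw [map_inv₀, ← mul_inv, hl1, inv_one]
        · have h3 : ((g1⁻¹ : Matrix.GeneralLinearGroup ι F) : Matrix ι ι F).det *
              (g1 : Matrix ι ι F).det = 1 := by
            rw [← Matrix.det_mul, ← Units.val_mul, inv_mul_cancel, Units.val_one, Matrix.det_one]
          rw [hd1] at h3
          exact eq_inv_of_mul_eq_one_left h3
        · rw [← qr_inv hf a0 l1 hl1, inv_inv]
          have e : g1⁻¹ * qr hf a0 l1
              = (qr hf a0 l1)⁻¹ * (g1 * (qr hf a0 l1)⁻¹)⁻¹ * ((qr hf a0 l1)⁻¹)⁻¹ := by group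
          rw [e]
          exact hTnorm _ (isom_inv _ (qr_isom hf a0 l1)) _ (T.inv_mem ht1) }
  have hNut : ∀ a κ, ut hf a κ ∈ N := by
    intro a κ
    refine ⟨ut_isom hf a κ, 1, by simp, ?_, ?_⟩
    · exact (mem_specialLinear_iff _).mp (ut_mem_SL hf a κ)
    · rw [qr_one, inv_one, mul_one]
      exact hutT a κ
  have hNqr : ∀ a l, qr hf a l ∈ N := by
    intro a l
    by_cases h : f a a ≠ 0 ∧ l * σ l = 1
    · refine ⟨qr_isom hf a l, l, h.2, qr_det hf a l h.1 h.2, ?_⟩
      have hfix : σ (f a0 a0 / f a a) = f a0 a0 / f a a := by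
        rw [map_div₀, self_fixed hf, self_fixed hf]
      obtain ⟨c, hc⟩ := norm_surj hf (f a0 a0 / f a a) hfix
      have hc0 : c ≠ 0 := by
        intro h0
        rw [h0, zero_mul] at hc
        exact (div_ne_zero ha0 h.1) hc.symm
      have hnorm : f a0 a0 = f (c • a) (c • a) := by
        rw [hf.smul_left, smul_right hf, ← mul_assoc, hc]
        have := h.1
        field_simp
      obtain ⟨t, tM, tiso, ta0⟩ := ut_trans hf hcard a0 (c • a) hnorm ha0
      have e1 : qr hf a l = t * qr hf a0 l * t⁻¹ := by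
        rw [qr_conj hf t tiso, ta0, qr_smul hf c hc0]
      rw [e1]
      have e2 : t * qr hf a0 l * t⁻¹ * (qr hf a0 l)⁻¹
          = t * (qr hf a0 l * t⁻¹ * (qr hf a0 l)⁻¹) := by group
      rw [e2]
      exact T.mul_mem (tM T hutT) (hTnorm _ (qr_isom hf a0 l) _ (T.inv_mem (tM T hutT)))
    · have : qr hf a l = 1 := by
        unfold qr
        rw [dif_neg h]
      rw [this]
      exact N.one_mem
  have hgN : g ∈ N := isom_mem_of_ut_qr hf N hNut hNqr (Fintype.card ι) g hg (by omega)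
  obtain ⟨-, l, hl, hdl, hmem⟩ := hgN
  rw [hdet] at hdl
  rw [← hdl, qr_one, inv_one, mul_one] at hmem
  exact hTM hmem

end Gen

end Cfsg.Agent.Lib.Helper94.UnitGen
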